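import Groth.Agent.QuadLib.OrthSmooth
import Groth.Agent.SmoothReduced.Basic
import Mathlib.Algebra.Algebra.ZMod
import Mathlib.RingTheory.LocalProperties.Reduced
import Mathlib.Algebra.Field.ZMod
import Mathlib.LinearAlgebra.BilinearForm.Properties

/-!
# Isometries in characteristic two have determinant one
-/

noncomputable section

universe u v

open Matrix

namespace Groth.Agent.QuadLib

variable {n : ℕ}

lemma coeffsOf_congr {A : Type*} [CommRing A] {X Y : Matrix (Fin n) (Fin n) A} (h : coeffsOf X = coeffsOf Y)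
    (P : Matrix (Fin n) (Fin n) A) : coeffsOf (Pᵀ * X * P) = coeffsOf (Pᵀ * Y * P) := by
  have h1 : coeffsOf (X - Y) = 0 := by
    rw [sub_eq_add_neg, coeffsOf_add, coeffsOf_neg, h, add_neg_cancel]
  rw [show X = Y + (X - Y) by abel, Matrix.mul_add, Matrix.add_mul, coeffsOf_add, coeffsOf_congr_alt h1 P, add_zero]

section Form

variable {R : Type u} [CommRing R] {M : Type v} [AddCommGroup M] [Module R M] [Module.Free R M]

lemma coeffs_comp (b : Module.Basis (Fin n) R M) (Q : QuadraticForm R M) (g : M →ₗ[R] M) :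
    QuadGrp.coeffs b (LinearEquiv.refl R R) (Q.comp g) =
      coeffsOf ((LinearMap.toMatrix b b g)ᵀ * liftMat b Q * LinearMap.toMatrix b b g) := by
  have h : ∀ i j, QuadGrp.bilinLift Q (g (b i)) (g (b j)) =
      ((LinearMap.toMatrix b b g)ᵀ * liftMat b Q * LinearMap.toMatrix b b g) i j := by
    intro i j
    conv_lhs => rw [← b.sum_repr (g (b i)), ← b.sum_repr (g (b j))]
    simp only [map_sum, map_smul, LinearMap.sum_apply, LinearMap.smul_apply, smul_eq_mul,
      Matrix.mul_apply, Matrix.transpose_apply, LinearMap.toMatrix_apply, liftMat, Matrix.of_apply,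
      Finset.sum_mul, Finset.mul_sum]
    exact Finset.sum_congr rfl fun k _ => Finset.sum_congr rfl fun l _ => by ring
  refine coeffs_eq_coeffsOf b (Q.comp g) _ (fun i => (Q_apply Q (g (b i))).trans (h i i)) (fun i j _ => ?_)
  simp only [QuadraticMap.polar, QuadraticMap.comp_apply, map_add]
  rw [← h i j, ← h j i]
  exact polar_eq Q (g (b i)) (g (b j))

lemma coeffsOf_toMatrix_of_mem_O (b : Module.Basis (Fin n) R M) (Q : QuadraticForm R M) (g : M ≃ₗ[R] M)
    (hg : g ∈ QuadGrp.O Q) :
    coeffsOf ((LinearMap.toMatrix b b g.toLinearMap)ᵀ * liftMat b Q * LinearMap.toMatrix b b g.toLinearMap) =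
      coeffsOf (liftMat b Q) := by
  rw [← coeffs_comp, show Q.comp g.toLinearMap = Q from QuadraticMap.ext hg]
  exact coeffs_eq_coeffsOf b Q _ (fun i => Q_apply Q (b i)) (fun i j _ => polar_eq Q (b i) (b j))

lemma isUnit_det_polar_of_isRegular (b : Module.Basis (Fin n) R M) (Q : QuadraticForm R M)
    (hQ : QuadGrp.IsRegular Q) : IsUnit (liftMat b Q + (liftMat b Q)ᵀ).det := by
  rw [← Matrix.isUnit_iff_isUnit_det, ← Matrix.vecMul_surjective_iff_isUnit]
  intro y
  obtain ⟨x, hx⟩ := hQ.2 (∑ j, y j • b.coord j)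
  refine ⟨fun i => b.repr x i, funext fun a => ?_⟩
  have h := LinearMap.congr_fun hx (b a)
  have h2 : (∑ j, y j • b.coord j) (b a) = y a := by
    simp [Module.Basis.coord_apply, Finsupp.single_apply]
  rw [← h2, ← h]
  conv_rhs => rw [← b.sum_repr x]
  simp only [map_sum, map_smul, LinearMap.sum_apply, LinearMap.smul_apply, smul_eq_mul,
    QuadraticMap.polarBilin_apply_apply, polar_eq, Matrix.vecMul, dotProduct, Matrix.add_apply,
    Matrix.transpose_apply, liftMat, Matrix.of_apply]

end Form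

section Universal

variable (n)

/-- `𝔽₂` in the given universe. -/
abbrev F2 : Type u := ULift.{u} (ZMod 2)

/-- Generic bilinear coefficients. -/
abbrev P2 : Type u := MvPolynomial (Fin n × Fin n) F2.{u}

/-- The generic matrix of a form. -/
def β2 : Matrix (Fin n) (Fin n) (P2.{u} n) := Matrix.of fun i j => MvPolynomial.X (i, j)

/-- The generic regular base. -/
abbrev R2 : Type u := Localization.Away ((β2.{u} n + (β2.{u} n)ᵀ).det)

/-- The generic regular form. -/
def Q2 : QuadraticForm (R2.{u} n) (Fin n → R2.{u} n) :=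
  (Matrix.toBilin' ((β2.{u} n).map (algebraMap (P2.{u} n) (R2.{u} n)))).toQuadraticMap

lemma coeffsOf_Q2 :
    coeffsOf (β₀ (Q2.{u} n)) = coeffsOf ((β2.{u} n).map (algebraMap (P2.{u} n) (R2.{u} n))) := by
  let b := Pi.basisFun (R2.{u} n) (Fin n)
  rw [← coeffs_eq_coeffsOf b (Q2 n) (β₀ (Q2 n)) (fun i => Q_apply _ (b i)) (fun i j _ => polar_eq _ (b i) (b j))]
  refine coeffs_eq_coeffsOf b (Q2 n) _ (fun i => ?_) (fun i j _ => ?_)
  · simp [Q2, b, Matrix.toBilin'_single]
  · simp [Q2, b, QuadraticMap.polar, LinearMap.BilinMap.toQuadraticMap_apply, Matrix.toBilin'_single]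
    abel

lemma isUnit_B₀_Q2 : IsUnit (B₀ (Q2.{u} n)).det := by
  rw [show B₀ (Q2.{u} n) = _ from polar_of_coeffsOf_eq (coeffsOf_Q2 n), ← Matrix.transpose_map,
    ← Matrix.map_add _ (map_add _), ← RingHom.mapMatrix_apply, ← RingHom.map_det]
  exact IsLocalization.Away.algebraMap_isUnit _

variable {n}

theorem det_eq_one_univ (he : Even n) : (univG (Q2.{u} n) false).det = 1 := by
  have hN : Nondeg' (Q2.{u} n) :=
    ⟨fun _ => isUnit_B₀_Q2 n, fun ho => absurd he (Nat.not_even_iff_odd.2 ho)⟩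
  haveI : Fact (Nat.Prime 2) := ⟨Nat.prime_two⟩
  haveI : IsReduced F2.{u} := isReduced_of_injective (ULift.ringEquiv (R := ZMod 2)).toRingHom
    (RingEquiv.injective _)
  haveI : IsReduced (R2.{u} n) := inferInstance
  haveI : Algebra.FormallySmooth (R2.{u} n) (HR (Q2.{u} n) false) :=
    formallySmooth_HR (Q2.{u} n) false hN (Or.inl ⟨Or.inl he, fun h => absurd h (by simp)⟩)
  haveI : Algebra.FinitePresentation (R2.{u} n) (HR (Q2.{u} n) false) :=
    Algebra.FinitePresentation.quotient (Submodule.fg_span (Set.finite_range _))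
  haveI : Algebra.Smooth (R2.{u} n) (HR (Q2.{u} n) false) := {}
  haveI : IsReduced (HR (Q2.{u} n) false) := SmoothReduced.isReduced_of_smooth (R2.{u} n) _
  have h2 : (2 : HR (Q2.{u} n) false) = 0 := by
    have e : (2 : F2.{u}) = 0 := ULift.ext _ _ (CharTwo.two_eq_zero : (2 : ZMod 2) = 0)
    have e' : (2 : P2.{u} n) = 0 := by rw [← map_ofNat (MvPolynomial.C (R := F2.{u})) 2, e, map_zero]
    have e'' : (2 : R2.{u} n) = 0 := by rw [← map_ofNat (algebraMap (P2.{u} n) (R2.{u} n)) 2, e', map_zero]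
    rw [← map_ofNat (algebraMap (R2.{u} n) (HR (Q2.{u} n) false)) 2, e'', map_zero]
  have hsq := det_sq_eq_one hN (cond_univG (Q2.{u} n) false).1
  refine sub_eq_zero.1 (IsNilpotent.eq_zero ⟨2, ?_⟩)
  linear_combination hsq - ((univG (Q2.{u} n) false).det - 1) * h2

theorem det_eq_one_of_charTwo (he : Even n) {R : Type u} [CommRing R] [CharP R 2]
    (β G : Matrix (Fin n) (Fin n) R) (hB : IsUnit (β + βᵀ).det)
    (hG : coeffsOf (Gᵀ * β * G) = coeffsOf β) : G.det = 1 := by
  let φ0 : P2.{u} n →+* R := MvPolynomial.eval₂Hom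
    ((ZMod.castHom (dvd_refl 2) R).comp (ULift.ringEquiv (R := ZMod 2)).toRingHom) fun p => β p.1 p.2
  have hφ0 : (β2.{u} n).map φ0 = β := by ext i j; simp [β2, φ0]
  let φ : R2.{u} n →+* R := IsLocalization.Away.lift (g := φ0) ((β2.{u} n + (β2.{u} n)ᵀ).det) (by
    rw [RingHom.map_det, RingHom.mapMatrix_apply, Matrix.map_add _ (map_add φ0), Matrix.transpose_map, hφ0]
    exact hB)
  letI := φ.toAlgebra
  have hβ : coeffsOf (βA (Q2.{u} n) R) = coeffsOf β := by
    rw [coeffsOf_map, coeffsOf_Q2, ← coeffsOf_map, Matrix.map_map]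
    congr 1
    ext i j
    rw [← hφ0]
    simp only [Matrix.map_apply, Function.comp_apply]
    exact IsLocalization.Away.lift_eq (g := φ0) _ _ _
  have hcond : Cond (Q2.{u} n) false G :=
    ⟨(coeffsOf_congr hβ G).trans (hG.trans hβ.symm), fun h => absurd h (by simp)⟩
  have h := congrArg ((hrEquiv (Q2.{u} n) false R).symm ⟨G, hcond⟩) (det_eq_one_univ (n := n) he)
  rw [map_one, AlgHom.map_det, AlgHom.mapMatrix_apply] at h
  rw [← h]
  congr 1
  exact (congrArg Subtype.val ((hrEquiv (Q2.{u} n) false R).apply_symm_apply ⟨G, hcond⟩)).symm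

end Universal

end Groth.Agent.QuadLib
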