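import Groth.Prelude.Def_QuadGrp
import Mathlib.LinearAlgebra.Matrix.ToLin
import Mathlib.LinearAlgebra.Matrix.Determinant.Basic
import Mathlib.Algebra.MvPolynomial.NoZeroDivisors
import Mathlib.Algebra.CharP.Two

/-!
# The half-discriminant
-/

noncomputable section

universe u v

open Matrix MvPolynomial

namespace Groth.Agent.QuadLib

/-- An alternating matrix of odd size in characteristic two has determinant zero. -/
lemma det_eq_zero_of_alternating {n : ℕ} (hn : Odd n) {S : Type*} [CommRing S] [CharP S 2]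
    (A : Matrix (Fin n) (Fin n) S) (hs : Aᵀ = A) (hd : ∀ i, A i i = 0) : A.det = 0 := by
  classical
  rw [Matrix.det_apply]
  refine Finset.sum_involution (fun σ _ => σ⁻¹) (fun σ _ => ?_) (fun σ _ hne => ?_)
    (fun σ _ => Finset.mem_univ _) (fun σ _ => inv_inv σ)
  · have h : ∏ i, A ((σ⁻¹ : Equiv.Perm (Fin n)) i) i = ∏ i, A (σ i) i := by
      refine (Equiv.prod_comp σ (fun i => A ((σ⁻¹ : Equiv.Perm (Fin n)) i) i)).symm.trans ?_
      refine Finset.prod_congr rfl fun i _ => ?_
      rw [show (σ⁻¹ : Equiv.Perm (Fin n)) (σ i) = i from σ.symm_apply_apply i]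
      exact congrFun (congrFun hs (σ i)) i
    rw [Equiv.Perm.sign_inv, h]
    exact CharTwo.add_self_eq_zero _
  · intro hσ
    apply hne
    have hfix : ∃ i, σ i = i := by
      by_contra hno
      push Not at hno
      have hsupp : σ.support = Finset.univ :=
        Finset.eq_univ_of_forall fun i => Equiv.Perm.mem_support.2 (hno i)
      have h1 : σ ^ 2 ^ 1 = 1 := by
        rw [pow_one, pow_two]
        exact mul_eq_one_iff_eq_inv.2 hσ.symm
      haveI : Fact (Nat.Prime 2) := ⟨Nat.prime_two⟩
      exact (Equiv.Perm.exists_fixed_point_of_prime (p := 2) (n := 1)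
        (by rw [Fintype.card_fin]; exact fun h => (Nat.not_even_iff_odd.2 hn) (even_iff_two_dvd.2 h)) h1).elim
        fun i hi => hno i hi
    obtain ⟨i, hi⟩ := hfix
    rw [Finset.prod_eq_zero (Finset.mem_univ i) (by rw [hi]; exact hd i), smul_zero]

lemma two_dvd_coeff_discUniv {n : ℕ} (hn : Odd n) (s : Sym2 (Fin n) →₀ ℕ) :
    (2 : ℤ) ∣ MvPolynomial.coeff s (QuadGrp.discUniv n) := by
  have h2 : (2 : ℤ) = ((2 : ℕ) : ℤ) := rfl
  rw [h2, ← ZMod.intCast_zmod_eq_zero_iff_dvd]
  have h : MvPolynomial.map (Int.castRingHom (ZMod 2)) (QuadGrp.discUniv n) = 0 := by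
    rw [QuadGrp.discUniv, RingHom.map_det]
    refine det_eq_zero_of_alternating hn _ ?_ ?_
    · ext i j
      simp only [transpose_apply, RingHom.mapMatrix_apply, map_apply, QuadGrp.univPolarMat, of_apply]
      by_cases hij : i = j
      · subst hij; rfl
      · rw [if_neg hij, if_neg (Ne.symm hij), Sym2.eq_swap]
    · intro i
      simp only [RingHom.mapMatrix_apply, map_apply, QuadGrp.univPolarMat, of_apply, if_true, map_mul,
        map_ofNat]
      rw [show (2 : MvPolynomial (Sym2 (Fin n)) (ZMod 2)) = 0 from CharTwo.two_eq_zero, zero_mul]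
  have h3 := congrArg (MvPolynomial.coeff s) h
  rw [MvPolynomial.coeff_map, MvPolynomial.coeff_zero] at h3
  exact h3

lemma two_mul_halfDiscUniv {n : ℕ} (hn : Odd n) :
    2 * QuadGrp.halfDiscUniv n = QuadGrp.discUniv n := by
  ext s
  rw [show (2 : MvPolynomial (Sym2 (Fin n)) ℤ) = C 2 from (map_ofNat C 2).symm,
    MvPolynomial.coeff_C_mul, QuadGrp.coeff_halfDiscUniv]
  exact Int.mul_ediv_cancel' (two_dvd_coeff_discUniv hn s)

variable {S : Type u} [CommRing S] {n : ℕ}

/-- The coefficients of the quadratic form of a matrix. -/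
def coeffsOf (β : Matrix (Fin n) (Fin n) S) : Sym2 (Fin n) → S :=
  Sym2.lift ⟨fun i j => if i = j then β i i else β i j + β j i, fun i j => by
    by_cases h : i = j
    · subst h; rfl
    · dsimp only; rw [if_neg h, if_neg (Ne.symm h), add_comm]⟩

lemma coeffsOf_mk (β : Matrix (Fin n) (Fin n) S) (i j : Fin n) :
    coeffsOf β (Sym2.mk i j) = if i = j then β i i else β i j + β j i := rfl

/-- The half-discriminant of the quadratic form of a matrix. -/
def hd (β : Matrix (Fin n) (Fin n) S) : S :=
  MvPolynomial.eval₂ (Int.castRingHom S) (coeffsOf β) (QuadGrp.halfDiscUniv n)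

lemma eval₂_discUniv (β : Matrix (Fin n) (Fin n) S) :
    MvPolynomial.eval₂ (Int.castRingHom S) (coeffsOf β) (QuadGrp.discUniv n) = (β + βᵀ).det := by
  rw [← MvPolynomial.coe_eval₂Hom, QuadGrp.discUniv, RingHom.map_det]
  congr 1
  ext i j
  simp only [RingHom.mapMatrix_apply, map_apply, QuadGrp.univPolarMat, of_apply, Matrix.add_apply,
    Matrix.transpose_apply]
  by_cases hij : i = j
  · subst hij
    rw [if_pos rfl, map_mul, map_ofNat, MvPolynomial.eval₂Hom_X', coeffsOf_mk, if_pos rfl, two_mul]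
  · rw [if_neg hij, MvPolynomial.eval₂Hom_X', coeffsOf_mk, if_neg hij]

lemma two_mul_hd (hn : Odd n) (β : Matrix (Fin n) (Fin n) S) : 2 * hd β = (β + βᵀ).det := by
  rw [← eval₂_discUniv, ← two_mul_halfDiscUniv hn, ← MvPolynomial.coe_eval₂Hom, map_mul, map_ofNat]
  rfl

lemma hd_map {T : Type*} [CommRing T] (φ : S →+* T) (β : Matrix (Fin n) (Fin n) S) :
    φ (hd β) = hd (β.map φ) := by
  rw [hd, hd, MvPolynomial.eval₂_comp_left, Subsingleton.elim (φ.comp (Int.castRingHom S)) (Int.castRingHom T)]
  refine congrArg (fun a => MvPolynomial.eval₂ _ a _) (funext fun z => ?_)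
  induction z using Sym2.inductionOn with
  | hf i j =>
    simp only [Function.comp_apply, coeffsOf_mk, map_apply]
    split_ifs <;> simp

/-- The generic ring. -/
abbrev UR (n : ℕ) : Type := MvPolynomial (Bool × Fin n × Fin n) ℤ

/-- The generic matrix. -/
def genMat (n : ℕ) (b : Bool) : Matrix (Fin n) (Fin n) (UR n) :=
  Matrix.of fun i j => X (b, i, j)

theorem hd_congr (hn : Odd n) (β G : Matrix (Fin n) (Fin n) S) :
    hd (Gᵀ * β * G) = G.det ^ 2 * hd β := by
  let φ : UR n →+* S := MvPolynomial.eval₂Hom (Int.castRingHom S)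
    fun p => if p.1 then β p.2.1 p.2.2 else G p.2.1 p.2.2
  have hb : (genMat n true).map φ = β := by ext i j; simp [genMat, φ]
  have hG : (genMat n false).map φ = G := by ext i j; simp [genMat, φ]
  have key : hd ((genMat n false)ᵀ * genMat n true * genMat n false) =
      (genMat n false).det ^ 2 * hd (genMat n true) := by
    refine mul_left_cancel₀ (two_ne_zero (α := UR n)) ?_
    rw [two_mul_hd hn, mul_left_comm, two_mul_hd hn]
    have : (genMat n false)ᵀ * genMat n true * genMat n false +
        ((genMat n false)ᵀ * genMat n true * genMat n false)ᵀ =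
        (genMat n false)ᵀ * (genMat n true + (genMat n true)ᵀ) * genMat n false := by
      rw [Matrix.transpose_mul, Matrix.transpose_mul, Matrix.transpose_transpose, Matrix.mul_add,
        Matrix.add_mul, Matrix.mul_assoc, Matrix.mul_assoc]
    rw [this, Matrix.det_mul, Matrix.det_mul, Matrix.det_transpose]
    ring
  have h := congrArg φ key
  rw [hd_map, map_mul, map_pow, RingHom.map_det, hd_map, RingHom.mapMatrix_apply, hG, hb,
    Matrix.map_mul, Matrix.map_mul, Matrix.transpose_map, hG, hb] at h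
  exact h

lemma hd_diagonal (hn : Odd n) (d : Fin n → S) :
    hd (Matrix.diagonal d) = 2 ^ (n - 1) * ∏ i, d i := by
  let φ : MvPolynomial (Fin n) ℤ →+* S := MvPolynomial.eval₂Hom (Int.castRingHom S) d
  have hmap : (Matrix.diagonal (X : Fin n → MvPolynomial (Fin n) ℤ)).map φ = Matrix.diagonal d := by
    rw [Matrix.diagonal_map (map_zero φ)]
    congr 1
    ext i
    simp [φ]
  have key : hd (Matrix.diagonal (X : Fin n → MvPolynomial (Fin n) ℤ)) =
      2 ^ (n - 1) * ∏ i, (X i : MvPolynomial (Fin n) ℤ) := by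
    refine mul_left_cancel₀ (two_ne_zero (α := MvPolynomial (Fin n) ℤ)) ?_
    rw [two_mul_hd hn, Matrix.diagonal_transpose, Matrix.diagonal_add, Matrix.det_diagonal,
      ← mul_assoc, ← pow_succ', Nat.sub_add_cancel hn.pos]
    simp only [← two_mul]
    rw [Finset.prod_mul_distrib, Finset.prod_const, Finset.card_univ, Fintype.card_fin]
  have h := congrArg φ key
  rw [hd_map, hmap, map_mul, map_pow, map_ofNat, map_prod] at h
  simpa [φ] using h

lemma coeffsOf_upper (β : Matrix (Fin n) (Fin n) S) (h : ∀ i j, i ≠ j → β i j + β j i = 0) :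
    coeffsOf β = coeffsOf (Matrix.diagonal fun i => β i i) := by
  funext z
  induction z using Sym2.inductionOn with
  | hf i j =>
    rw [coeffsOf_mk, coeffsOf_mk]
    by_cases hij : i = j
    · subst hij; rw [if_pos rfl, if_pos rfl, Matrix.diagonal_apply_eq]
    · rw [if_neg hij, if_neg hij, h i j hij, Matrix.diagonal_apply_ne _ hij,
        Matrix.diagonal_apply_ne _ (Ne.symm hij), add_zero]

section Form

variable {R : Type u} [CommRing R] {M : Type v} [AddCommGroup M] [Module R M] [Module.Free R M]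

/-- The matrix of the chosen bilinear lift. -/
def liftMat (b : Module.Basis (Fin n) R M) (Q : QuadraticForm R M) : Matrix (Fin n) (Fin n) R :=
  Matrix.of fun i j => QuadGrp.bilinLift Q (b i) (b j)

lemma Q_apply (Q : QuadraticForm R M) (x : M) : Q x = QuadGrp.bilinLift Q x x :=
  (congrArg (fun q : QuadraticForm R M => q x) (QuadGrp.bilinLift_spec Q)).symm

lemma polar_eq (Q : QuadraticForm R M) (x y : M) :
    QuadraticMap.polar Q x y = QuadGrp.bilinLift Q x y + QuadGrp.bilinLift Q y x := by
  simp only [QuadraticMap.polar, Q_apply, map_add, LinearMap.add_apply]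
  abel

lemma coeffs_eq_coeffsOf (b : Module.Basis (Fin n) R M) (Q : QuadraticForm R M)
    (β : Matrix (Fin n) (Fin n) R) (hd' : ∀ i, Q (b i) = β i i)
    (ho : ∀ i j, i ≠ j → QuadraticMap.polar Q (b i) (b j) = β i j + β j i) :
    QuadGrp.coeffs b (LinearEquiv.refl R R) Q = coeffsOf β := by
  funext z
  induction z using Sym2.inductionOn with
  | hf i j =>
    rw [QuadGrp.coeffs_mk, coeffsOf_mk]
    by_cases hij : i = j
    · subst hij; rw [if_pos rfl, if_pos rfl]; exact hd' i
    · rw [if_neg hij, if_neg hij]; exact ho i j hij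

lemma halfDisc_eq (b : Module.Basis (Fin n) R M) (Q : QuadraticForm R M) :
    QuadGrp.halfDisc b (LinearEquiv.refl R R) Q = hd (liftMat b Q) := by
  rw [QuadGrp.halfDisc, coeffs_eq_coeffsOf b Q (liftMat b Q) (fun i => Q_apply Q (b i))
    (fun i j _ => polar_eq Q (b i) (b j))]
  rfl

lemma halfDisc_comp (b : Module.Basis (Fin n) R M) (Q : QuadraticForm R M) (g : M →ₗ[R] M) :
    QuadGrp.halfDisc b (LinearEquiv.refl R R) (Q.comp g) =
      hd ((LinearMap.toMatrix b b g)ᵀ * liftMat b Q * LinearMap.toMatrix b b g) := by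
  have h : ∀ i j, QuadGrp.bilinLift Q (g (b i)) (g (b j)) =
      ((LinearMap.toMatrix b b g)ᵀ * liftMat b Q * LinearMap.toMatrix b b g) i j := by
    intro i j
    conv_lhs => rw [← b.sum_repr (g (b i)), ← b.sum_repr (g (b j))]
    simp only [map_sum, map_smul, LinearMap.sum_apply, LinearMap.smul_apply, smul_eq_mul,
      Matrix.mul_apply, Matrix.transpose_apply, LinearMap.toMatrix_apply, liftMat, Matrix.of_apply,
      Finset.sum_mul, Finset.mul_sum]
    exact Finset.sum_congr rfl fun k _ => Finset.sum_congr rfl fun l _ => by ring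
  rw [QuadGrp.halfDisc, coeffs_eq_coeffsOf b (Q.comp g)
    ((LinearMap.toMatrix b b g)ᵀ * liftMat b Q * LinearMap.toMatrix b b g) (fun i => ?_) (fun i j _ => ?_)]
  · rfl
  · exact (Q_apply Q (g (b i))).trans (h i i)
  · simp only [QuadraticMap.polar, QuadraticMap.comp_apply, map_add]
    rw [← h i j, ← h j i]
    exact polar_eq Q (g (b i)) (g (b j))

theorem halfDisc_comp_eq (hn : Odd n) (b : Module.Basis (Fin n) R M) (Q : QuadraticForm R M) (g : M →ₗ[R] M) :
    QuadGrp.halfDisc b (LinearEquiv.refl R R) (Q.comp g) =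
      LinearMap.det g ^ 2 * QuadGrp.halfDisc b (LinearEquiv.refl R R) Q := by
  rw [halfDisc_comp, hd_congr hn, halfDisc_eq, LinearMap.det_toMatrix]

end Form

end Groth.Agent.QuadLib
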