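import Groth.Agent.QuadLib.CharTwoDet
import Mathlib.RingTheory.LocalRing.ResidueField.Ideal
import Mathlib.LinearAlgebra.QuadraticForm.Radical

/-!
# The half-discriminant and non-degeneracy over fields
-/

noncomputable section

universe u v

open Matrix TensorProduct

namespace Groth.Agent.QuadLib

variable {n : ℕ} {K : Type u} [Field K]

lemma split_congr {B : Matrix (Fin n) (Fin n) K} (hsym : Bᵀ = B) {r : Fin n → K} (hr : B *ᵥ r = 0)
    (i₀ i j : Fin n) :
    ((colMat r i₀)ᵀ * B * colMat r i₀) i j = if i = i₀ ∨ j = i₀ then 0 else B i j := by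
  have hPcol : ∀ k, colMat r i₀ k i₀ = r k := fun k => Matrix.updateCol_self
  have hP : ∀ k j, j ≠ i₀ → colMat r i₀ k j = if k = j then 1 else 0 := fun k j hj => by
    change ((1 : Matrix (Fin n) (Fin n) K).updateCol i₀ r) k j = _
    rw [Matrix.updateCol_ne hj]
    exact Matrix.one_apply
  have hBP : ∀ i j, (B * colMat r i₀) i j = if j = i₀ then 0 else B i j := fun i j => by
    rw [Matrix.mul_apply]
    by_cases hj : j = i₀
    · subst hj
      rw [if_pos rfl]
      simp only [hPcol]
      exact congrFun hr i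
    · rw [if_neg hj]
      simp [hP _ j hj]
  rw [Matrix.mul_assoc, Matrix.mul_apply]
  simp only [Matrix.transpose_apply, hBP]
  by_cases hj : j = i₀
  · simp [hj]
  · by_cases hi' : i = i₀
    · subst hi'
      simp only [if_neg hj, hPcol, if_true, true_or]
      have := congrFun hr j
      simp only [Matrix.mulVec, dotProduct, Pi.zero_apply] at this
      rw [← this]
      refine Finset.sum_congr rfl fun k _ => ?_
      rw [show B k j = B j k from congrFun (congrFun hsym j) k]
      exact mul_comm _ _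
    · simp [hP _ i hi', hi', hj]

lemma polarMat_symm (β : Matrix (Fin n) (Fin n) K) : (β + βᵀ)ᵀ = β + βᵀ := by
  rw [Matrix.transpose_add, Matrix.transpose_transpose, add_comm]

lemma hd_split_value (hn : Odd n) {β : Matrix (Fin n) (Fin n) K} {r : Fin n → K} (hr : (β + βᵀ) *ᵥ r = 0)
    (i₀ : Fin n) :
    r i₀ ^ 2 * hd β = (r ⬝ᵥ (β *ᵥ r)) *
      (minorMat ((colMat r i₀)ᵀ * (β + βᵀ) * colMat r i₀) i₀).det := by
  let P := colMat r i₀
  have hγ : Pᵀ * β * P + (Pᵀ * β * P)ᵀ = Pᵀ * (β + βᵀ) * P := by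
    rw [Matrix.transpose_mul, Matrix.transpose_mul, Matrix.transpose_transpose, Matrix.mul_add,
      Matrix.add_mul, Matrix.mul_assoc Pᵀ βᵀ P]
  have h1 := hd_congr hn β P
  rw [hd_of_split hn (γ := Pᵀ * β * P) (i₀ := i₀) (fun j hj => ?_), hγ, det_colMat] at h1
  · rw [← h1]
    congr 1
    have hPcol : ∀ k, P k i₀ = r k := fun k => Matrix.updateCol_self
    rw [Matrix.mul_assoc, Matrix.mul_apply]
    simp only [Matrix.transpose_apply, hPcol, Matrix.mul_apply, dotProduct, Matrix.mulVec]
  · have := split_congr (polarMat_symm β) hr i₀ i₀ j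
    rw [← hγ, Matrix.add_apply, Matrix.transpose_apply, if_pos (Or.inl rfl)] at this
    exact this

/-- The criterion in coordinates. -/
theorem hd_ne_zero_iff (hn : Odd n) (β : Matrix (Fin n) (Fin n) K) :
    hd β ≠ 0 ↔ (∀ r, (β + βᵀ) *ᵥ r = 0 → r ⬝ᵥ (β *ᵥ r) = 0 → r = 0) ∧
      (∀ r, r ≠ 0 → (β + βᵀ) *ᵥ r = 0 → ∀ s, (β + βᵀ) *ᵥ s = 0 → ∃ c : K, s = c • r) := by
  have hdet := two_mul_hd hn β
  by_cases h2 : (2 : K) = 0
  · haveI : CharP K 2 := CharTwo.of_one_ne_zero_of_two_eq_zero one_ne_zero h2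
    constructor
    · intro hne
      obtain ⟨i₀, hi₀⟩ := exists_minor hn β hne
      have key : ∀ r, (β + βᵀ) *ᵥ r = 0 → r i₀ = 0 → r = 0 := fun r hr h0 => by
        refine Matrix.eq_zero_of_mulVec_eq_zero hi₀ (funext fun i => ?_)
        by_cases hi : i = i₀
        · subst hi; simp [Matrix.mulVec, dotProduct, minorMat, h0]
        · have hi' := congrFun hr i
          simp only [Matrix.mulVec, dotProduct, Pi.zero_apply] at hi' ⊢
          rw [← hi']
          refine Finset.sum_congr rfl fun k _ => ?_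
          by_cases hk : k = i₀
          · subst hk; rw [h0, mul_zero, mul_zero]
          · simp [minorMat, hi, hk]
      refine ⟨fun r hr hq => ?_, fun r hr0 hr s hs => ⟨s i₀ / r i₀, ?_⟩⟩
      · by_contra hr0
        have hi : r i₀ ≠ 0 := fun h => hr0 (key r hr h)
        have h := hd_split_value hn hr i₀
        rw [hq, zero_mul] at h
        exact hne ((mul_eq_zero.1 h).resolve_left (pow_ne_zero _ hi))
      · have hi : r i₀ ≠ 0 := fun h => hr0 (key r hr h)
        refine sub_eq_zero.1 (key _ ?_ ?_)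
        · rw [Matrix.mulVec_sub, Matrix.mulVec_smul, hr, hs, smul_zero, sub_zero]
        · simp [div_mul_cancel₀ _ hi]
    · rintro ⟨hrad, hone⟩ h0
      obtain ⟨r, hr0, hr⟩ := Matrix.exists_mulVec_eq_zero_iff.2 (hdet.symm.trans (by rw [h2, zero_mul]))
      obtain ⟨i₀, hi⟩ := Function.ne_iff.1 hr0
      have h := hd_split_value hn hr i₀
      rw [h0, mul_zero] at h
      have hM := (mul_eq_zero.1 h.symm).resolve_left (fun hq => hr0 (hrad r hr hq))
      obtain ⟨s, hs0, hs⟩ := Matrix.exists_mulVec_eq_zero_iff.2 hM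
      have hsi : s i₀ = 0 := by
        have := congrFun hs i₀
        simpa [Matrix.mulVec, dotProduct, minorMat] using this
      have hC : ((colMat r i₀)ᵀ * (β + βᵀ) * colMat r i₀) *ᵥ s = 0 := by
        funext i
        by_cases hi' : i = i₀
        · simp [Matrix.mulVec, dotProduct, split_congr (polarMat_symm β) hr, hi']
        · have hi'' := congrFun hs i
          simp only [Matrix.mulVec, dotProduct, Pi.zero_apply] at hi'' ⊢
          rw [← hi'']
          refine Finset.sum_congr rfl fun k _ => ?_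
          by_cases hk : k = i₀
          · subst hk; rw [hsi, mul_zero, mul_zero]
          · simp [minorMat, hi', hk]
      have hPu : IsUnit (colMat r i₀).det := by rw [det_colMat]; exact isUnit_iff_ne_zero.2 hi
      have hBP : (β + βᵀ) *ᵥ (colMat r i₀ *ᵥ s) = 0 := by
        refine Matrix.eq_zero_of_mulVec_eq_zero (by rw [Matrix.det_transpose]; exact hPu.ne_zero : (colMat r i₀)ᵀ.det ≠ 0) ?_
        rw [Matrix.mulVec_mulVec, Matrix.mulVec_mulVec]
        exact hC
      obtain ⟨c, hc⟩ := hone r hr0 hr _ hBP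
      have hPe : colMat r i₀ *ᵥ Pi.single i₀ 1 = r := by
        funext k
        simp [colMat]
      have : s = c • Pi.single i₀ 1 := by
        refine sub_eq_zero.1 (Matrix.eq_zero_of_mulVec_eq_zero hPu.ne_zero ?_)
        rw [Matrix.mulVec_sub, Matrix.mulVec_smul, hPe, hc, sub_self]
      rw [this, Pi.smul_apply, Pi.single_eq_same, smul_eq_mul, mul_one] at hsi
      exact hs0 (by rw [this, hsi, zero_smul])
  · constructor
    · intro hne
      have hd0 : (β + βᵀ).det ≠ 0 := by rw [← hdet]; exact mul_ne_zero h2 hne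
      exact ⟨fun r hr _ => Matrix.eq_zero_of_mulVec_eq_zero hd0 hr,
        fun r hr0 hr => absurd (Matrix.eq_zero_of_mulVec_eq_zero hd0 hr) hr0⟩
    · rintro ⟨hrad, -⟩ h0
      obtain ⟨r, hr0, hr⟩ := Matrix.exists_mulVec_eq_zero_iff.2 (hdet.symm.trans (by rw [h0, mul_zero]))
      have h : (2 : K) * (r ⬝ᵥ (β *ᵥ r)) = r ⬝ᵥ ((β + βᵀ) *ᵥ r) := by
        rw [Matrix.add_mulVec, dotProduct_add, Matrix.mulVec_transpose, dotProduct_comm r (r ᵥ* β),
          ← Matrix.dotProduct_mulVec, two_mul]
      rw [hr, dotProduct_zero] at h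
      exact hr0 (hrad r hr ((mul_eq_zero.1 h).resolve_left h2))

theorem nondegenerate_iff {R : Type u} [CommRing R] {M : Type v} [AddCommGroup M] [Module R M]
    [Module.Free R M] (hn : Odd n) (b : Module.Basis (Fin n) R M) (Q : QuadraticForm R M)
    [Algebra R K] :
    QuadraticMap.Nondegenerate (Q := QuadGrp.baseChangeForm K Q) ↔
      algebraMap R K (QuadGrp.halfDisc b (LinearEquiv.refl R R) Q) ≠ 0 := by
  let E : Module.Basis (Fin n) K (K ⊗[R] M) := Algebra.TensorProduct.basis K b
  let β : Matrix (Fin n) (Fin n) K := (liftMat b Q).map (algebraMap R K)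
  let bl : LinearMap.BilinMap K (K ⊗[R] M) K :=
    ((QuadGrp.bilinLift Q).baseChange K).compr₂ (AlgebraTensorModule.rid R K K).toLinearMap
  have hE : ∀ i j, bl (E i) (E j) = β i j := fun i j => by
    simp [bl, E, β, Algebra.TensorProduct.basis_apply, liftMat, Algebra.algebraMap_eq_smul_one]
  have hbl : ∀ x y, bl x y = (E.repr x : Fin n → K) ⬝ᵥ (β *ᵥ (E.repr y : Fin n → K)) := fun x y => by
    conv_lhs => rw [← E.sum_repr x, ← E.sum_repr y]
    simp only [map_sum, map_smul, LinearMap.sum_apply, LinearMap.smul_apply, smul_eq_mul, hE,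
      dotProduct, Matrix.mulVec, Finset.mul_sum]
    rw [Finset.sum_comm]
    exact Finset.sum_congr rfl fun i _ => Finset.sum_congr rfl fun j _ => by ring
  have hq : ∀ x, QuadGrp.baseChangeForm K Q x = bl x x := fun _ => rfl
  have hker : ∀ x, (QuadGrp.baseChangeForm K Q).polarBilin x = 0 ↔ (β + βᵀ) *ᵥ (E.repr x : Fin n → K) = 0 := by
    intro x
    have hp : ∀ y, (QuadGrp.baseChangeForm K Q).polarBilin x y =
        ((β + βᵀ) *ᵥ (E.repr x : Fin n → K)) ⬝ᵥ (E.repr y : Fin n → K) := fun y => by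
      rw [QuadraticMap.polarBilin_apply_apply]
      simp only [QuadraticMap.polar, hq, map_add, LinearMap.add_apply]
      rw [Matrix.add_mulVec, add_dotProduct, hbl x y, hbl y x, Matrix.mulVec_transpose,
        ← Matrix.dotProduct_mulVec, dotProduct_comm (β *ᵥ _)]
      abel
    constructor
    · intro h
      funext i
      have h1 := hp (E i)
      rw [h, LinearMap.zero_apply, E.repr_self, Finsupp.single_eq_pi_single, dotProduct_single, mul_one] at h1
      exact h1.symm
    · intro h
      exact LinearMap.ext fun y => by rw [hp, h, zero_dotProduct, LinearMap.zero_apply]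
  have hval : ∀ r : Fin n → K, (E.repr (∑ i, r i • E i) : Fin n → K) = r := fun r =>
    funext fun i => congrFun (E.repr_sum_self r) i
  rw [show algebraMap R K (QuadGrp.halfDisc b (LinearEquiv.refl R R) Q) = hd β by rw [halfDisc_eq, hd_map],
    hd_ne_zero_iff hn β]
  letI : AddCommGroup (K ⊗[R] M) := inferInstance
  haveI : Module.Free K (QuadGrp.baseChangeForm K Q).polarBilin.ker :=
    Module.Free.of_basis (Module.Basis.ofVectorSpace K _)
  constructor
  · rintro ⟨hrad, hle⟩
    refine ⟨fun r hr hq0 => ?_, fun r hr0 hr s hs => ?_⟩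
    · have hx : ∑ i, r i • E i ∈ (QuadGrp.baseChangeForm K Q).radical :=
        ⟨by rw [hq, hbl, hval]; exact hq0, (hker _).2 (by rw [hval]; exact hr)⟩
      rw [hrad, Submodule.mem_bot] at hx
      rw [← hval r, hx, map_zero]; rfl
    · obtain ⟨v, hv⟩ : ∃ v : (QuadGrp.baseChangeForm K Q).polarBilin.ker,
          ∀ x : (QuadGrp.baseChangeForm K Q).polarBilin.ker, ∃ c : K, c • v = x := by
        obtain ⟨v, hv, hle'⟩ := (rank_submodule_le_one_iff _).1 hle
        exact ⟨⟨v, hv⟩, fun x => (Submodule.mem_span_singleton.1 (hle' x.2)).imp fun c hc => Subtype.ext hc⟩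
      obtain ⟨c, hc⟩ := hv ⟨∑ i, r i • E i, (hker _).2 (by rw [hval]; exact hr)⟩
      obtain ⟨d, hd'⟩ := hv ⟨∑ i, s i • E i, (hker _).2 (by rw [hval]; exact hs)⟩
      have hc0 : c ≠ 0 := fun h => hr0 (by
        have := congrArg Subtype.val hc
        simp only [h, zero_smul, ZeroMemClass.coe_zero] at this
        rw [← hval r, ← this, map_zero]; rfl)
      refine ⟨d / c, ?_⟩
      have h1 : ∑ i, r i • E i = c • (v : K ⊗[R] M) := (congrArg Subtype.val hc).symm
      have h2 : ∑ i, s i • E i = d • (v : K ⊗[R] M) := (congrArg Subtype.val hd').symm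
      rw [← hval r, ← hval s, h1, h2, map_smul, map_smul, Finsupp.coe_smul, Finsupp.coe_smul, smul_smul,
        div_mul_cancel₀ _ hc0]
  · rintro ⟨hrad, hone⟩
    refine ⟨eq_bot_iff.2 fun x hx => ?_, ?_⟩
    · have := hrad _ ((hker x).1 hx.2) (by rw [← hbl, ← hq]; exact hx.1)
      rw [Submodule.mem_bot]
      exact E.repr.map_eq_zero_iff.1 (Finsupp.ext fun i => congrFun this i)
    · suffices h : ∃ v : (QuadGrp.baseChangeForm K Q).polarBilin.ker,
          ∀ x : (QuadGrp.baseChangeForm K Q).polarBilin.ker, ∃ c : K, c • v = x by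
        obtain ⟨v, hv⟩ := h
        exact (rank_submodule_le_one_iff _).2 ⟨v, v.2, fun x hx =>
          Submodule.mem_span_singleton.2 ((hv ⟨x, hx⟩).imp fun c hc => congrArg Subtype.val hc)⟩
      by_cases hbot : ∀ x : (QuadGrp.baseChangeForm K Q).polarBilin.ker, x = 0
      · exact ⟨0, fun x => ⟨0, by rw [hbot x, smul_zero]⟩⟩
      push Not at hbot
      obtain ⟨v, hv⟩ := hbot
      refine ⟨v, fun x => ?_⟩
      have hv0 : (E.repr (v : K ⊗[R] M) : Fin n → K) ≠ 0 := fun h =>
        hv (Subtype.ext (E.repr.map_eq_zero_iff.1 (Finsupp.ext fun i => congrFun h i)))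
      obtain ⟨c, hc⟩ := hone _ hv0 ((hker _).1 v.2) _ ((hker _).1 x.2)
      refine ⟨c, Subtype.ext (E.repr.injective (Finsupp.ext fun i => ?_))⟩
      rw [SetLike.val_smul, map_smul, Finsupp.smul_apply]
      exact (congrFun hc i).symm

end Groth.Agent.QuadLib
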