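import Mathlib.Algebra.MvPolynomial.Eval
import Mathlib.RingTheory.Nakayama
import Mathlib.RingTheory.Ideal.Maximal
import Mathlib.Data.Finsupp.Lex
import Mathlib.Order.WellFounded

/-!
# Polynomials with unit content are non-zero-divisors
-/

noncomputable section

open MvPolynomial

namespace Groth.Agent.QuadLib

variable {σ : Type*} {R : Type*} [CommRing R]

lemma exists_coeff_notMem (f : MvPolynomial σ R) (m : Ideal R) (x : σ → R)
    (hx : MvPolynomial.eval x f ∉ m) : ∃ s, f.coeff s ∉ m := by
  by_contra h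
  push Not at h
  apply hx
  rw [MvPolynomial.eval_eq]
  exact Submodule.sum_mem _ fun s _ => Ideal.mul_mem_right _ _ (h s)

/-- A jointly "unit content" family kills nothing. -/
theorem eq_zero_of_forall_mul_eq_zero [LinearOrder σ] {ι : Type*} (f : ι → MvPolynomial σ R)
    (hf : ∀ m : Ideal R, m.IsMaximal → ∃ i x, MvPolynomial.eval x (f i) ∉ m)
    (P : MvPolynomial σ R) (h : ∀ i, f i * P = 0) : P = 0 := by
  classical
  let N : Ideal R := Ideal.span (P.coeff '' (P.support : Set (σ →₀ ℕ)))
  have hN : N.FG := ⟨P.support.image P.coeff, by rw [Finset.coe_image]⟩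
  have hmemN : ∀ s, P.coeff s ∈ N := fun s => by
    by_cases hs : s ∈ P.support
    · exact Ideal.subset_span ⟨s, hs, rfl⟩
    · rw [notMem_support_iff.1 hs]; exact zero_mem _
  suffices key : ∀ m : Ideal R, m.IsMaximal → N ≤ m • N by
    have hann : ∀ s, P.coeff s = 0 := by
      intro s
      by_contra hs
      let A : Ideal R :=
        { carrier := {r | r * P.coeff s = 0}
          add_mem' := fun {a b} ha hb => by
            change (a + b) * P.coeff s = 0
            rw [add_mul, show a * P.coeff s = 0 from ha, show b * P.coeff s = 0 from hb, add_zero]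
          zero_mem' := zero_mul _
          smul_mem' := fun c a ha => by
            change c * a * P.coeff s = 0
            rw [mul_assoc, show a * P.coeff s = 0 from ha, mul_zero] }
      have hA : A ≠ ⊤ := fun hA => hs (by
        have : (1 : R) ∈ A := by rw [hA]; trivial
        simpa using (show (1 : R) * P.coeff s = 0 from this))
      obtain ⟨m, hm, hAm⟩ := Ideal.exists_le_maximal A hA
      obtain ⟨r, hr1, hr⟩ := Submodule.exists_sub_one_mem_and_smul_eq_zero_of_fg_of_le_smul m N hN (key m hm)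
      have hrm : r ∈ m := hAm (hr _ (hmemN s))
      exact hm.ne_top (m.eq_top_iff_one.2 (by simpa using m.sub_mem hrm hr1))
    exact MvPolynomial.ext _ _ fun s => (hann s).trans (MvPolynomial.coeff_zero s).symm
  intro m hm
  obtain ⟨i, x, hx⟩ := hf m hm
  obtain ⟨s₀, hs₀⟩ := exists_coeff_notMem (f i) m x hx
  let T : Finset (σ →₀ ℕ) := (f i).support.filter fun s => (f i).coeff s ∉ m
  have hT : T.Nonempty := ⟨s₀, Finset.mem_filter.2 ⟨mem_support_iff.2 fun h0 => hs₀ (h0 ▸ m.zero_mem), hs₀⟩⟩
  obtain ⟨α, hαT, hαmax⟩ := T.exists_max_image toLex hT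
  have hα : (f i).coeff α ∉ m := (Finset.mem_filter.1 hαT).2
  have hsmul : ∀ a ∈ m, ∀ t, a * P.coeff t ∈ m • N := fun a ha t =>
    Submodule.smul_mem_smul ha (hmemN t)
  have hall : ∀ β, P.coeff β ∈ m • N := by
    by_contra hex
    push Not at hex
    obtain ⟨β₀, hβ₀⟩ := hex
    let B : Finset (σ →₀ ℕ) := P.support.filter fun β => P.coeff β ∉ m • N
    have hB : B.Nonempty := ⟨β₀, Finset.mem_filter.2
      ⟨mem_support_iff.2 fun h0 => hβ₀ (h0 ▸ zero_mem _), hβ₀⟩⟩
    obtain ⟨β, hβB, hβmax⟩ := B.exists_max_image toLex hB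
    have hc := congrArg (MvPolynomial.coeff (α + β)) (h i)
    rw [MvPolynomial.coeff_mul, MvPolynomial.coeff_zero,
      ← Finset.add_sum_erase _ _ (Finset.mem_antidiagonal.2 (rfl : (α, β).1 + (α, β).2 = α + β))] at hc
    have hrest : ∑ p ∈ (Finset.antidiagonal (α + β)).erase (α, β), (f i).coeff p.1 * P.coeff p.2 ∈ m • N := by
      refine Submodule.sum_mem _ fun p hp => ?_
      obtain ⟨hne, hp⟩ := Finset.mem_erase.1 hp
      rw [Finset.mem_antidiagonal] at hp
      by_cases h1 : (f i).coeff p.1 ∈ m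
      · exact hsmul _ h1 _
      by_cases h2 : P.coeff p.2 ∈ m • N
      · exact Ideal.mul_mem_left _ _ h2
      exfalso
      have a1 : toLex p.1 ≤ toLex α := hαmax _ (Finset.mem_filter.2
        ⟨mem_support_iff.2 fun h0 => h1 (h0 ▸ m.zero_mem), h1⟩)
      have a2 : toLex p.2 ≤ toLex β := hβmax _ (Finset.mem_filter.2
        ⟨mem_support_iff.2 fun h0 => h2 (h0 ▸ zero_mem _), h2⟩)
      have e : toLex p.1 + toLex p.2 = toLex α + toLex β := congrArg toLex hp
      rcases a1.lt_or_eq with hlt | heq
      · exact (add_lt_add_of_lt_of_le hlt a2).ne e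
      · have h1' : p.1 = α := toLex.injective heq
        exact hne (Prod.ext h1' (add_left_cancel (h1' ▸ hp)))
    have hmain : (f i).coeff α * P.coeff β ∈ m • N := by
      rw [eq_neg_of_add_eq_zero_left hc]
      exact Submodule.neg_mem _ hrest
    obtain ⟨a, y, hy, hay⟩ := hm.exists_inv hα
    apply (Finset.mem_filter.1 hβB).2
    have : P.coeff β = a * ((f i).coeff α * P.coeff β) + y * P.coeff β := by
      rw [← mul_assoc, ← add_mul, hay, one_mul]
    rw [this]
    exact Submodule.add_mem _ (Ideal.mul_mem_left _ _ hmain) (hsmul _ hy _)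
  exact Ideal.span_le.2 fun _ ⟨s, _, hs⟩ => hs ▸ hall s

end Groth.Agent.QuadLib
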