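import Groth.Agent.QuadLib.Disc
import Groth.Agent.QuadLib.Poly
import Mathlib.LinearAlgebra.Reflection
import Mathlib.LinearAlgebra.Transvection.Basic
import Mathlib.RingTheory.Localization.Away.Basic
import Mathlib.RingTheory.TensorProduct.Free

/-!
# The centraliser of pairs of generic reflections
-/

noncomputable section

universe u

open TensorProduct

namespace Groth.Agent.QuadLib

variable {R : Type u} [CommRing R] {n : ℕ} (Q : QuadraticForm R (Fin n → R))

/-- The matrix of the lift in the standard basis. -/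
abbrev β₀ : Matrix (Fin n) (Fin n) R := liftMat (Pi.basisFun R (Fin n)) Q

/-- The polar matrix. -/
abbrev B₀ : Matrix (Fin n) (Fin n) R := β₀ Q + (β₀ Q).transpose

/-- `2×2` minors of the polar matrix generate the unit ideal. -/
def HasUnitMinors : Prop :=
  ∀ m : Ideal R, m.IsMaximal → ∃ i j a b, B₀ Q i a * B₀ Q j b - B₀ Q i b * B₀ Q j a ∉ m

section Algebra

variable {S : Type*} [CommRing S] [Algebra R S]

/-- The value of the form on coordinates. -/
def qv (x : Fin n → S) : S := ∑ i, ∑ j, x i * x j * algebraMap R S (β₀ Q i j)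

/-- The value of the polar form on a coordinate vector and a basis vector. -/
def pcol (x : Fin n → S) (a : Fin n) : S := ∑ i, x i * algebraMap R S (B₀ Q i a)

/-- The `3 × 3` determinant on three coordinates. -/
def w3 (k l p : Fin n) (y v w : Fin n → S) : S :=
  y k * (v l * w p - v p * w l) - y l * (v k * w p - v p * w k) + y p * (v k * w l - v l * w k)

/-- The action of an endomorphism on coordinates. -/
def gv (g : (Fin n → R) →ₗ[R] (Fin n → R)) (x : Fin n → S) (k : Fin n) : S :=
  ∑ j, x j * algebraMap R S (g (Pi.basisFun R (Fin n) j) k)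

variable {T : Type*} [CommRing T] [Algebra R T] (φ : S →ₐ[R] T)

lemma map_qv (x : Fin n → S) : φ (qv Q x) = qv Q (fun i => φ (x i)) := by
  simp [qv]

lemma map_pcol (x : Fin n → S) (a : Fin n) : φ (pcol Q x a) = pcol Q (fun i => φ (x i)) a := by
  simp [pcol]

lemma map_w3 (k l p : Fin n) (y v w : Fin n → S) :
    φ (w3 k l p y v w) = w3 k l p (fun i => φ (y i)) (fun i => φ (v i)) (fun i => φ (w i)) := by
  simp [w3]

lemma map_gv (g : (Fin n → R) →ₗ[R] (Fin n → R)) (x : Fin n → S) (k : Fin n) :
    φ (gv g x k) = gv g (fun i => φ (x i)) k := by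
  simp [gv]

end Algebra

lemma qv_eq (x : Fin n → R) : qv Q x = Q x := by
  conv_rhs => rw [Q_apply Q x, ← (Pi.basisFun R (Fin n)).sum_repr x]
  simp only [map_sum, map_smul, LinearMap.sum_apply, LinearMap.smul_apply, smul_eq_mul, qv,
    Algebra.algebraMap_self_apply, liftMat, Matrix.of_apply, Pi.basisFun_repr, Finset.mul_sum]
  rw [Finset.sum_comm]
  exact Finset.sum_congr rfl fun i _ => Finset.sum_congr rfl fun j _ => by ring

section Space

variable (A : Type u) [CommRing A] [Algebra R A]

/-- The standard basis of `A ⊗ R^n`. -/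
abbrev EB : Module.Basis (Fin n) A (A ⊗[R] (Fin n → R)) :=
  Algebra.TensorProduct.basis A (Pi.basisFun R (Fin n))

/-- The vector with given coordinates. -/
def vec (x : Fin n → A) : A ⊗[R] (Fin n → R) := ∑ i, x i • EB (R := R) A i

lemma coord_vec (x : Fin n → A) (k : Fin n) : (EB (R := R) A).repr (vec A x) k = x k := by
  rw [vec, Module.Basis.repr_sum_self]

/-- The bilinear lift of the base-changed form. -/
def bA : LinearMap.BilinMap A (A ⊗[R] (Fin n → R)) A :=
  ((QuadGrp.bilinLift Q).baseChange A).compr₂ (AlgebraTensorModule.rid R A A).toLinearMap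

lemma form_eq (x : A ⊗[R] (Fin n → R)) : QuadGrp.baseChangeForm A Q x = bA Q A x x := rfl

lemma bA_basis (i j : Fin n) : bA Q A (EB A i) (EB A j) = algebraMap R A (β₀ Q i j) := by
  simp [bA, Algebra.TensorProduct.basis_apply, liftMat, Algebra.algebraMap_eq_smul_one]

lemma bA_vec (x y : Fin n → A) :
    bA Q A (vec A x) (vec A y) = ∑ i, ∑ j, x i * y j * algebraMap R A (β₀ Q i j) := by
  simp only [vec, map_sum, map_smul, LinearMap.sum_apply, LinearMap.smul_apply, smul_eq_mul,
    bA_basis, Finset.mul_sum]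
  rw [Finset.sum_comm]
  exact Finset.sum_congr rfl fun i _ => Finset.sum_congr rfl fun j _ => by ring

lemma form_vec (x : Fin n → A) : QuadGrp.baseChangeForm A Q (vec A x) = qv Q x := by
  rw [form_eq, bA_vec]
  rfl

lemma polar_form (x y : A ⊗[R] (Fin n → R)) :
    QuadraticMap.polar (QuadGrp.baseChangeForm A Q) x y = bA Q A x y + bA Q A y x := by
  simp only [QuadraticMap.polar, form_eq, map_add, LinearMap.add_apply]
  abel

lemma polar_vec_basis (x : Fin n → A) (a : Fin n) :
    QuadraticMap.polar (QuadGrp.baseChangeForm A Q) (vec A x) (EB A a) = pcol Q x a := by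
  rw [polar_form]
  simp only [vec, map_sum, map_smul, LinearMap.sum_apply, LinearMap.smul_apply, smul_eq_mul,
    bA_basis, pcol, Matrix.add_apply, Matrix.transpose_apply, map_add, mul_add, Finset.sum_add_distrib]

lemma baseChange_vec (g : (Fin n → R) ≃ₗ[R] (Fin n → R)) (x : Fin n → A) :
    g.baseChange R A (Fin n → R) (Fin n → R) (vec A x) = vec A (gv g.toLinearMap x) := by
  refine (EB (R := R) A).repr.injective (Finsupp.ext fun k => ?_)
  rw [coord_vec]
  simp [vec, gv, Algebra.TensorProduct.basis_apply, Algebra.TensorProduct.basis_repr_tmul,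
    Finsupp.coe_finsetSum, Finset.sum_apply]

variable {A}

lemma refl_fn_self {v : A ⊗[R] (Fin n → R)} {c : A} (hc : c * QuadGrp.baseChangeForm A Q v = 1) :
    (c • (QuadGrp.baseChangeForm A Q).polarBilin v) v = 2 := by
  rw [LinearMap.smul_apply, QuadraticMap.polarBilin_apply_apply, QuadraticMap.polar_self, nsmul_eq_mul,
    smul_eq_mul, Nat.cast_ofNat, mul_left_comm, hc, mul_one]

/-- The reflection in a vector with unit value. -/
def refl {v : A ⊗[R] (Fin n → R)} {c : A} (hc : c * QuadGrp.baseChangeForm A Q v = 1) :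
    (A ⊗[R] (Fin n → R)) ≃ₗ[A] (A ⊗[R] (Fin n → R)) :=
  Module.reflection (refl_fn_self Q hc)

lemma refl_apply {v : A ⊗[R] (Fin n → R)} {c : A} (hc : c * QuadGrp.baseChangeForm A Q v = 1)
    (x : A ⊗[R] (Fin n → R)) :
    refl Q hc x = x - (c * QuadraticMap.polar (QuadGrp.baseChangeForm A Q) v x) • v :=
  Module.reflection_apply x (refl_fn_self Q hc)

lemma form_refl {v : A ⊗[R] (Fin n → R)} {c : A} (hc : c * QuadGrp.baseChangeForm A Q v = 1)
    (x : A ⊗[R] (Fin n → R)) :
    QuadGrp.baseChangeForm A Q (refl Q hc x) = QuadGrp.baseChangeForm A Q x := by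
  rw [refl_apply, polar_form, form_eq, form_eq]
  rw [form_eq] at hc
  simp only [map_sub, map_smul, LinearMap.sub_apply, LinearMap.smul_apply, smul_eq_mul]
  linear_combination (c * (bA Q A v x + bA Q A x v) * (bA Q A v x + bA Q A x v)) * hc

lemma mem_O_form_iff (h : (A ⊗[R] (Fin n → R)) ≃ₗ[A] (A ⊗[R] (Fin n → R))) :
    h ∈ QuadGrp.orth Q A ↔ h ∈ QuadGrp.O (QuadGrp.baseChangeForm A Q) :=
  forall_congr' fun _ => (AlgebraTensorModule.rid R A A).injective.eq_iff.symm

lemma det_refl {v : A ⊗[R] (Fin n → R)} {c : A} (hc : c * QuadGrp.baseChangeForm A Q v = 1) :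
    LinearMap.det (refl Q hc).toLinearMap = -1 := by
  haveI : Module.Free A (A ⊗[R] (Fin n → R)) := Module.Free.of_basis (EB A)
  haveI : Module.Finite A (A ⊗[R] (Fin n → R)) := Module.Finite.of_basis (EB A)
  have : (refl Q hc).toLinearMap =
      LinearMap.transvection (-(c • (QuadGrp.baseChangeForm A Q).polarBilin v)) v := by
    refine LinearMap.ext fun x => ?_
    refine (refl_apply Q hc x).trans ?_
    simp [LinearMap.transvection.apply, sub_eq_add_neg, QuadraticMap.polarBilin_apply_apply]
  rw [this, LinearMap.transvection.det, LinearMap.neg_apply, refl_fn_self Q hc]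
  norm_num

end Space

/-- `g` commutes, after every base change, with products of two reflections. -/
def CommPairs (g : (Fin n → R) ≃ₗ[R] (Fin n → R)) : Prop :=
  ∀ (A : Type u) [CommRing A] [Algebra R A] (v w : A ⊗[R] (Fin n → R)) (c d : A)
    (hc : c * QuadGrp.baseChangeForm A Q v = 1) (hd : d * QuadGrp.baseChangeForm A Q w = 1),
    g.baseChange R A (Fin n → R) (Fin n → R) * (refl Q hc * refl Q hd) =
      (refl Q hc * refl Q hd) * g.baseChange R A (Fin n → R) (Fin n → R)

lemma alg_step {A : Type*} [CommRing A] {c d qt qs P S ρ Wt Ws : A} (hc : c * qt = 1) (hd : d * qs = 1)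
    (h : d * P * Ws + c * (S - d * P * ρ) * Wt = 0) :
    qt * P * Ws + (qs * S - P * ρ) * Wt = 0 := by
  linear_combination (qt * qs) * h - (qs * S * Wt - qs * d * P * ρ * Wt) * hc -
      (qt * P * Ws - P * ρ * Wt) * hd

lemma pair_relation {A : Type u} [CommRing A] [Algebra R A] {g : (Fin n → R) ≃ₗ[R] (Fin n → R)}
    (hg : CommPairs Q g) (t s : Fin n → A) {c d : A} (hc : c * qv Q t = 1) (hd : d * qv Q s = 1)
    (a b k l p : Fin n) :
    (pcol Q t a * pcol Q s b - pcol Q t b * pcol Q s a) * w3 k l p (gv g.toLinearMap t) t s = 0 := by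
  rw [← form_vec] at hc hd
  have hcomm := hg A (vec A t) (vec A s) c d hc hd
  let W : A ⊗[R] (Fin n → R) →ₗ[A] A :=
    (t l * s p - t p * s l) • (EB (R := R) A).coord k - (t k * s p - t p * s k) • (EB (R := R) A).coord l +
      (t k * s l - t l * s k) • (EB (R := R) A).coord p
  have hW : ∀ y, W y = w3 k l p (fun i => (EB (R := R) A).repr y i) t s := fun y => by
    simp only [W, LinearMap.add_apply, LinearMap.sub_apply, LinearMap.smul_apply, smul_eq_mul,
      Module.Basis.coord_apply, w3]
    ring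
  have hWt : W (vec A t) = 0 := by
    rw [hW]; simp only [coord_vec, w3]; ring
  have hWs : W (vec A s) = 0 := by
    rw [hW]; simp only [coord_vec, w3]; ring
  have hWgt : W (g.baseChange R A (Fin n → R) (Fin n → R) (vec A t)) = w3 k l p (gv g.toLinearMap t) t s := by
    rw [hW, baseChange_vec]; simp only [coord_vec]
  have heq : ∀ x, W (g.baseChange R A (Fin n → R) (Fin n → R) (refl Q hc (refl Q hd x))) =
      W (g.baseChange R A (Fin n → R) (Fin n → R) x) := fun x => by
    have h1 : g.baseChange R A (Fin n → R) (Fin n → R) (refl Q hc (refl Q hd x)) =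
        refl Q hc (refl Q hd (g.baseChange R A (Fin n → R) (Fin n → R) x)) :=
      congrArg (fun e : (A ⊗[R] (Fin n → R)) ≃ₗ[A] (A ⊗[R] (Fin n → R)) => e x) hcomm
    rw [h1, refl_apply, refl_apply]
    simp only [map_sub, map_smul, smul_eq_mul, hWt, hWs, mul_zero, sub_zero]
  have hx : ∀ x, QuadGrp.baseChangeForm A Q (vec A t) *
        QuadraticMap.polar (QuadGrp.baseChangeForm A Q) (vec A s) x *
        W (g.baseChange R A (Fin n → R) (Fin n → R) (vec A s)) +
      (QuadGrp.baseChangeForm A Q (vec A s) * QuadraticMap.polar (QuadGrp.baseChangeForm A Q) (vec A t) x -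
        QuadraticMap.polar (QuadGrp.baseChangeForm A Q) (vec A s) x *
          QuadraticMap.polar (QuadGrp.baseChangeForm A Q) (vec A t) (vec A s)) *
        W (g.baseChange R A (Fin n → R) (Fin n → R) (vec A t)) = 0 := fun x => by
    have h1 := heq x
    rw [refl_apply, refl_apply] at h1
    simp only [map_sub, map_smul, smul_eq_mul] at h1
    rw [← QuadraticMap.polarBilin_apply_apply (QuadGrp.baseChangeForm A Q) (vec A t)
      (x - (d * QuadraticMap.polar (QuadGrp.baseChangeForm A Q) (vec A s) x) • vec A s)] at h1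
    simp only [map_sub, map_smul, smul_eq_mul, QuadraticMap.polarBilin_apply_apply] at h1
    exact alg_step hc hd (by linear_combination -h1)
  have ha := hx (EB A a)
  have hb := hx (EB A b)
  rw [polar_vec_basis, polar_vec_basis, hWgt] at ha hb
  linear_combination (d * pcol Q s b) * ha - (d * pcol Q s a) * hb -
    ((pcol Q t a * pcol Q s b - pcol Q t b * pcol Q s a) * w3 k l p (gv g.toLinearMap t) t s) * hd

lemma exists_eval_notMem (hM : HasUnitMinors Q) (m : Ideal R) (hm : m.IsMaximal) :
    ∃ x : Fin n → R, Q x ∉ m := by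
  by_contra h
  push Not at h
  obtain ⟨i, j, a, b, hab⟩ := hM m hm
  have hB : ∀ i a, B₀ Q i a ∈ m := fun i a => by
    have h1 : B₀ Q i a = QuadraticMap.polar Q (Pi.basisFun R (Fin n) i) (Pi.basisFun R (Fin n) a) := by
      rw [polar_eq]; rfl
    rw [h1, QuadraticMap.polar]
    exact m.sub_mem (m.sub_mem (h _) (h _)) (h _)
  exact hab (m.sub_mem (m.mul_mem_right _ (hB i a)) (m.mul_mem_right _ (hB i b)))

theorem exists_scalar_of_commPairs (hn : 3 ≤ n) (hM : HasUnitMinors Q) {g : (Fin n → R) ≃ₗ[R] (Fin n → R)}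
    (hg : CommPairs Q g) (hO : g ∈ QuadGrp.O Q) :
    ∃ c : R, c * c = 1 ∧ ∀ v, g v = c • v := by
  classical
  letI : LinearOrder (Fin n ⊕ Fin n) := LinearOrder.lift' finSumFinEquiv (Equiv.injective _)
  let P := MvPolynomial (Fin n ⊕ Fin n) R
  let t : Fin n → P := fun i => MvPolynomial.X (Sum.inl i)
  let s : Fin n → P := fun i => MvPolynomial.X (Sum.inr i)
  let f : P := qv Q t * qv Q s
  let A := Localization.Away f
  let φ : P →ₐ[R] A := IsScalarTower.toAlgHom R P A
  have hev : ∀ (x y : Fin n → R) (k : Fin n), MvPolynomial.aeval (Sum.elim x y) (t k) = x k ∧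
      MvPolynomial.aeval (Sum.elim x y) (s k) = y k := fun x y k => by simp [t, s]
  have hcancel : ∀ Y : P, f * Y = 0 → Y = 0 := by
    intro Y hY
    have h1 : qv Q s * Y = 0 := by
      refine eq_zero_of_forall_mul_eq_zero (fun _ : Unit => qv Q t) (fun m hm => ?_) _
        (fun _ => (mul_assoc _ _ _).symm.trans hY)
      obtain ⟨x, hx⟩ := exists_eval_notMem Q hM m hm
      refine ⟨(), Sum.elim x 0, ?_⟩
      rw [← MvPolynomial.coe_aeval_eq_eval]
      change MvPolynomial.aeval (Sum.elim x 0) (qv Q t) ∉ m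
      rw [map_qv]
      simpa [t, qv_eq] using hx
    refine eq_zero_of_forall_mul_eq_zero (fun _ : Unit => qv Q s) (fun m hm => ?_) _ (fun _ => h1)
    obtain ⟨x, hx⟩ := exists_eval_notMem Q hM m hm
    refine ⟨(), Sum.elim 0 x, ?_⟩
    rw [← MvPolynomial.coe_aeval_eq_eval]
    change MvPolynomial.aeval (Sum.elim 0 x) (qv Q s) ∉ m
    rw [map_qv]
    simpa [s, qv_eq] using hx
  have hpow : ∀ (N : ℕ) (Y : P), f ^ N * Y = 0 → Y = 0 := by
    intro N
    induction N with
    | zero => intro Y hY; simpa using hY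
    | succ N ih => intro Y hY; exact ih Y (hcancel _ (by rw [← mul_assoc, ← pow_succ']; exact hY))
  obtain ⟨u, hu⟩ := IsLocalization.Away.algebraMap_isUnit (S := A) f
  have hc : (↑u⁻¹ * φ (qv Q s)) * qv Q (fun i => φ (t i)) = 1 := by
    rw [← map_qv, mul_assoc, ← map_mul, mul_comm (qv Q s)]
    exact (congrArg (((u⁻¹ : Aˣ) : A) * ·) hu.symm).trans u.inv_mul
  have hd : (↑u⁻¹ * φ (qv Q t)) * qv Q (fun i => φ (s i)) = 1 := by
    rw [← map_qv, mul_assoc, ← map_mul]
    exact (congrArg (((u⁻¹ : Aˣ) : A) * ·) hu.symm).trans u.inv_mul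
  have hz : ∀ k l p : Fin n, w3 k l p (gv g.toLinearMap t) t s = 0 := by
    intro k l p
    refine eq_zero_of_forall_mul_eq_zero
      (fun ab : Fin n × Fin n => pcol Q t ab.1 * pcol Q s ab.2 - pcol Q t ab.2 * pcol Q s ab.1)
      (fun m hm => ?_) _ (fun ab => ?_)
    · obtain ⟨i, j, a, b, hab⟩ := hM m hm
      refine ⟨(a, b), Sum.elim (Pi.single i 1) (Pi.single j 1), ?_⟩
      rw [← MvPolynomial.coe_aeval_eq_eval]
      change MvPolynomial.aeval (Sum.elim (Pi.single i 1) (Pi.single j 1))
        (pcol Q t a * pcol Q s b - pcol Q t b * pcol Q s a) ∉ m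
      rw [map_sub, map_mul, map_mul, map_pcol, map_pcol, map_pcol, map_pcol]
      simpa [t, s, pcol, Pi.single_apply] using hab
    · have h0 : φ ((pcol Q t ab.1 * pcol Q s ab.2 - pcol Q t ab.2 * pcol Q s ab.1) *
          w3 k l p (gv g.toLinearMap t) t s) = 0 := by
        rw [map_mul, map_sub, map_mul, map_mul, map_pcol, map_pcol, map_pcol, map_pcol, map_w3]
        simp only [map_gv]
        exact pair_relation Q hg _ _ hc hd ab.1 ab.2 k l p
      obtain ⟨⟨_, N, rfl⟩, hN⟩ := (IsLocalization.map_eq_zero_iff (Submonoid.powers f) A _).1 h0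
      exact hpow N _ hN
  have hk : ∀ (k l : Fin n), k ≠ l → ∀ x : Fin n → R, g x k * x l = g x l * x k := by
    intro k l hkl x
    obtain ⟨p, hpk, hpl⟩ : ∃ p : Fin n, p ≠ k ∧ p ≠ l := by
      have hcard : ({k, l}ᶜ : Finset (Fin n)).Nonempty := by
        rw [← Finset.card_pos, Finset.card_compl, Fintype.card_fin]
        have := Finset.card_le_two (a := k) (b := l)
        omega
      obtain ⟨p, hp⟩ := hcard
      exact ⟨p, fun h => (Finset.mem_compl.1 hp) (by simp [h]), fun h => (Finset.mem_compl.1 hp) (by simp [h])⟩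
    have h1 := congrArg (MvPolynomial.aeval (Sum.elim x (Pi.single p 1))) (hz k l p)
    rw [map_w3, map_zero] at h1
    simp only [map_gv] at h1
    have hgx : ∀ i, gv g.toLinearMap (fun j => x j) i = g x i := fun i => by
      conv_rhs => rw [← (Pi.basisFun R (Fin n)).sum_repr x]
      simp [gv, Finset.sum_apply]
    simp only [t, s, MvPolynomial.aeval_X, Sum.elim_inl, Sum.elim_inr, w3, Pi.single_eq_same,
      Pi.single_eq_of_ne (Ne.symm hpk), Pi.single_eq_of_ne (Ne.symm hpl), hgx] at h1
    linear_combination h1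
  let i₀ : Fin n := ⟨0, by omega⟩
  have hoff : ∀ k l, k ≠ l → g (Pi.single l 1) k = 0 := fun k l hkl => by
    simpa [Pi.single_eq_of_ne hkl] using hk k l hkl (Pi.single l 1)
  have hdiag : ∀ k, g (Pi.single k 1) k = g (Pi.single i₀ 1) i₀ := by
    intro k
    by_cases hki : k = i₀
    · rw [hki]
    have h1 := hk k i₀ hki (Pi.single k 1 + Pi.single i₀ 1)
    simpa [map_add, hoff k i₀ hki, hoff i₀ k (Ne.symm hki), hki, Ne.symm hki] using h1
  have hsc : ∀ v, g v = g (Pi.single i₀ 1) i₀ • v := by
    intro v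
    funext k
    conv_lhs => rw [← (Pi.basisFun R (Fin n)).sum_repr v]
    simp only [map_sum, map_smul, Finset.sum_apply, Pi.smul_apply, smul_eq_mul, Pi.basisFun_repr,
      Pi.basisFun_apply]
    rw [Finset.sum_eq_single k (fun l _ hl => by rw [hoff k l (Ne.symm hl), mul_zero])
      (fun h => absurd (Finset.mem_univ k) h), hdiag k, mul_comm]
  refine ⟨g (Pi.single i₀ 1) i₀, ?_, hsc⟩
  generalize g (Pi.single i₀ 1) i₀ = c at hsc
  have hq : ∀ v, (c * c - 1) * Q v = 0 := fun v => by
    have := hO v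
    rw [hsc v, QuadraticMap.map_smul, smul_eq_mul] at this
    linear_combination this
  by_contra hne
  let I : Ideal R :=
    { carrier := {r | (c * c - 1) * r = 0}
      add_mem' := fun {a b} ha hb => by
        change (c * c - 1) * (a + b) = 0
        rw [mul_add, show (c * c - 1) * a = 0 from ha, show (c * c - 1) * b = 0 from hb, add_zero]
      zero_mem' := mul_zero _
      smul_mem' := fun a r hr => by
        change (c * c - 1) * (a * r) = 0
        rw [mul_left_comm, show (c * c - 1) * r = 0 from hr, mul_zero] }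
  have hI : I ≠ ⊤ := fun hI => hne (sub_eq_zero.1 (by
    have : (1 : R) ∈ I := by rw [hI]; trivial
    simpa using (show (c * c - 1) * 1 = 0 from this)))
  obtain ⟨m, hm, hIm⟩ := Ideal.exists_le_maximal I hI
  obtain ⟨x, hx⟩ := exists_eval_notMem Q hM m hm
  exact hx (hIm (hq x))

end Groth.Agent.QuadLib
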