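import Groth.Agent.QuadLib.Disc
import Mathlib.LinearAlgebra.Matrix.NonsingularInverse
import Mathlib.LinearAlgebra.Matrix.ToLinearEquiv
import Mathlib.RingTheory.Localization.AtPrime.Basic
import Mathlib.RingTheory.Nilpotent.Lemmas
import Mathlib.RingTheory.LocalRing.ResidueField.Basic
import Mathlib.Algebra.CharP.Two

/-!
# Lifting isometries of a quadratic form along square zero ideals
-/

noncomputable section

universe u

open Matrix

namespace Groth.Agent.QuadLib

variable {A : Type u} [CommRing A] {n : ℕ}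

lemma coeffsOf_add (β γ : Matrix (Fin n) (Fin n) A) :
    coeffsOf (β + γ) = coeffsOf β + coeffsOf γ := by
  funext z
  induction z using Sym2.inductionOn with
  | hf i j =>
    rw [Pi.add_apply, coeffsOf_mk, coeffsOf_mk, coeffsOf_mk]
    split_ifs
    · exact Matrix.add_apply _ _ _ _
    · rw [Matrix.add_apply, Matrix.add_apply]; ring

lemma coeffsOf_transpose (β : Matrix (Fin n) (Fin n) A) : coeffsOf βᵀ = coeffsOf β := by
  funext z
  induction z using Sym2.inductionOn with
  | hf i j =>
    rw [coeffsOf_mk, coeffsOf_mk]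
    split_ifs with h
    · subst h; rfl
    · exact add_comm _ _

lemma coeffsOf_smul (s : A) (β : Matrix (Fin n) (Fin n) A) : coeffsOf (s • β) = s • coeffsOf β := by
  funext z
  induction z using Sym2.inductionOn with
  | hf i j =>
    rw [Pi.smul_apply, coeffsOf_mk, coeffsOf_mk]
    split_ifs
    · rfl
    · simp only [Matrix.smul_apply, smul_eq_mul, mul_add]

lemma coeffsOf_map {T : Type u} [CommRing T] (φ : A →+* T) (β : Matrix (Fin n) (Fin n) A) :
    coeffsOf (β.map φ) = φ ∘ coeffsOf β := by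
  funext z
  induction z using Sym2.inductionOn with
  | hf i j =>
    rw [Function.comp_apply, coeffsOf_mk, coeffsOf_mk]
    split_ifs
    · rfl
    · exact (map_add φ _ _).symm

lemma coeffsOf_neg (β : Matrix (Fin n) (Fin n) A) : coeffsOf (-β) = -coeffsOf β := by
  rw [← neg_one_smul A β, coeffsOf_smul, neg_one_smul]

lemma hd_of_coeffsOf_eq {β γ : Matrix (Fin n) (Fin n) A} (h : coeffsOf β = coeffsOf γ) : hd β = hd γ := by
  rw [hd, hd, h]

lemma polar_of_coeffsOf_eq {β γ : Matrix (Fin n) (Fin n) A} (h : coeffsOf β = coeffsOf γ) :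
    β + βᵀ = γ + γᵀ := by
  ext i j
  have := congrFun h (Sym2.mk i j)
  rw [coeffsOf_mk, coeffsOf_mk] at this
  simp only [Matrix.add_apply, Matrix.transpose_apply]
  by_cases hij : i = j
  · subst hij; rw [if_pos rfl, if_pos rfl] at this; rw [this]
  · rwa [if_neg hij, if_neg hij] at this

/-- The matrix with the row and column of `i₀` replaced by the unit vector. -/
def minorMat (M : Matrix (Fin n) (Fin n) A) (i₀ : Fin n) : Matrix (Fin n) (Fin n) A :=
  Matrix.of fun i j => if i = i₀ ∨ j = i₀ then (if i = j then 1 else 0) else M i j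

lemma minorMat_map {S : Type*} [CommRing S] {T : Type*} [CommRing T] (φ : S →+* T)
    (M : Matrix (Fin n) (Fin n) S) (i₀ : Fin n) :
    (minorMat M i₀).map φ = minorMat (M.map φ) i₀ := by
  ext i j
  simp only [minorMat, Matrix.map_apply, Matrix.of_apply]
  split_ifs <;> simp

lemma det_of_split {M : Matrix (Fin n) (Fin n) A} {i₀ : Fin n}
    (h : ∀ j, j ≠ i₀ → M i₀ j = 0 ∧ M j i₀ = 0) : M.det = M i₀ i₀ * (minorMat M i₀).det := by
  have hM : M = (minorMat M i₀).updateRow i₀ (M i₀ i₀ • minorMat M i₀ i₀) := by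
    ext i j
    by_cases hi : i = i₀
    · subst hi
      rw [Matrix.updateRow_self, Pi.smul_apply, smul_eq_mul, minorMat, Matrix.of_apply, if_pos (Or.inl rfl)]
      by_cases hj : i = j
      · subst hj; rw [if_pos rfl, mul_one]
      · rw [if_neg hj, mul_zero]; exact (h j (Ne.symm hj)).1
    · rw [Matrix.updateRow_ne hi, minorMat, Matrix.of_apply]
      by_cases hj : j = i₀
      · subst hj; rw [if_pos (Or.inr rfl), if_neg hi]; exact (h i hi).2
      · rw [if_neg (not_or.2 ⟨hi, hj⟩)]
  conv_lhs => rw [hM]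
  rw [Matrix.det_updateRow_smul]
  have : (minorMat M i₀).updateRow i₀ (minorMat M i₀ i₀) = minorMat M i₀ := Matrix.updateRow_eq_self _ _
  rw [this]

/-- A matrix with the `i₀`-th row and column cleared. -/
def clearMat (γ : Matrix (Fin n) (Fin n) A) (i₀ : Fin n) : Matrix (Fin n) (Fin n) A :=
  Matrix.of fun i j => if (i = i₀ ∧ j ≠ i₀) ∨ (j = i₀ ∧ i ≠ i₀) then 0 else γ i j

lemma hd_clearMat (hn : Odd n) (γ : Matrix (Fin n) (Fin n) A) (i₀ : Fin n) :
    hd (clearMat γ i₀) = γ i₀ i₀ * (minorMat (γ + γᵀ) i₀).det := by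
  let φ : UR n →+* A := MvPolynomial.eval₂Hom (Int.castRingHom A) fun p => γ p.2.1 p.2.2
  have hmap : (genMat n true).map φ = γ := by ext i j; simp [genMat, φ]
  have key : hd (clearMat (genMat n true) i₀) =
      genMat n true i₀ i₀ * (minorMat (genMat n true + (genMat n true)ᵀ) i₀).det := by
    refine mul_left_cancel₀ (two_ne_zero (α := UR n)) ?_
    have hs : ∀ j, j ≠ i₀ → (clearMat (genMat n true) i₀ + (clearMat (genMat n true) i₀)ᵀ) i₀ j = 0 ∧
        (clearMat (genMat n true) i₀ + (clearMat (genMat n true) i₀)ᵀ) j i₀ = 0 := fun j hj => by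
      simp [clearMat, hj, Ne.symm hj]
    have hmin : minorMat (clearMat (genMat n true) i₀ + (clearMat (genMat n true) i₀)ᵀ) i₀ =
        minorMat (genMat n true + (genMat n true)ᵀ) i₀ := by
      ext i j
      simp only [minorMat, Matrix.of_apply]
      by_cases h : i = i₀ ∨ j = i₀
      · rw [if_pos h, if_pos h]
      · rw [if_neg h, if_neg h]
        push Not at h
        simp [clearMat, h.1, h.2]
    rw [two_mul_hd hn, det_of_split hs, hmin, ← mul_assoc]
    congr 1
    simp [clearMat, two_mul]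
  have h := congrArg φ key
  rw [hd_map, map_mul, RingHom.map_det, RingHom.mapMatrix_apply] at h
  rw [minorMat_map, Matrix.map_add _ (map_add φ), Matrix.transpose_map, hmap] at h
  refine Eq.trans ?_ (h.trans (congrArg (· * _) ?_))
  · congr 1
    ext i j
    simp only [clearMat, Matrix.map_apply, Matrix.of_apply]
    rw [← hmap, Matrix.map_apply]
    split_ifs <;> simp
  · simp [φ, genMat]

lemma hd_of_split (hn : Odd n) {γ : Matrix (Fin n) (Fin n) A} {i₀ : Fin n}
    (h : ∀ j, j ≠ i₀ → γ i₀ j + γ j i₀ = 0) :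
    hd γ = γ i₀ i₀ * (minorMat (γ + γᵀ) i₀).det := by
  rw [← hd_clearMat hn γ i₀]
  refine hd_of_coeffsOf_eq ?_
  funext z
  induction z using Sym2.inductionOn with
  | hf i j =>
    rw [coeffsOf_mk, coeffsOf_mk]
    by_cases hij : i = j
    · subst hij
      simp [clearMat]
    · rw [if_neg hij, if_neg hij]
      by_cases hi : i = i₀
      · subst hi
        rw [h j (Ne.symm hij)]
        simp [clearMat, Ne.symm hij]
      · by_cases hj : j = i₀
        · subst hj
          rw [add_comm, h i hi]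
          simp [clearMat, hi]
        · simp [clearMat, hi, hj]

/-- Replace the `i₀`-th column of the identity by a vector. -/
def colMat (r : Fin n → A) (i₀ : Fin n) : Matrix (Fin n) (Fin n) A :=
  (1 : Matrix (Fin n) (Fin n) A).updateCol i₀ r

lemma det_colMat (r : Fin n → A) (i₀ : Fin n) : (colMat r i₀).det = r i₀ := by
  rw [colMat, ← Matrix.cramer_apply, Matrix.cramer_one]
  rfl

lemma exists_minor (hn : Odd n) {K : Type u} [Field K] [CharP K 2] (β : Matrix (Fin n) (Fin n) K)
    (h : hd β ≠ 0) : ∃ i₀, (minorMat (β + βᵀ) i₀).det ≠ 0 := by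
  have hsym : (β + βᵀ)ᵀ = β + βᵀ := by
    rw [Matrix.transpose_add, Matrix.transpose_transpose, add_comm]
  have hdet : (β + βᵀ).det = 0 := by
    rw [← two_mul_hd hn, CharTwo.two_eq_zero, zero_mul]
  obtain ⟨r, hr0, hr⟩ := Matrix.exists_mulVec_eq_zero_iff.2 hdet
  obtain ⟨i₀, hi⟩ := Function.ne_iff.1 hr0
  refine ⟨i₀, fun hmin => h ?_⟩
  let P := colMat r i₀
  let B := β + βᵀ
  have hPcol : ∀ k, P k i₀ = r k := fun k => Matrix.updateCol_self
  have hP : ∀ k j, j ≠ i₀ → P k j = if k = j then 1 else 0 := fun k j hj => by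
    change ((1 : Matrix (Fin n) (Fin n) K).updateCol i₀ r) k j = _
    rw [Matrix.updateCol_ne hj]
    exact Matrix.one_apply
  have hBP : ∀ i j, (B * P) i j = if j = i₀ then 0 else B i j := fun i j => by
    rw [Matrix.mul_apply]
    by_cases hj : j = i₀
    · subst hj
      rw [if_pos rfl]
      simp only [hPcol]
      exact congrFun hr i
    · rw [if_neg hj]
      simp [hP _ j hj]
  have hfull : ∀ i j, (Pᵀ * B * P) i j = if i = i₀ ∨ j = i₀ then 0 else B i j := fun i j => by
    rw [Matrix.mul_assoc, Matrix.mul_apply]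
    simp only [Matrix.transpose_apply, hBP]
    by_cases hj : j = i₀
    · simp [hj]
    · by_cases hi' : i = i₀
      · subst hi'
        simp only [if_pos (Or.inl rfl), if_neg hj, hPcol, if_true, true_or]
        have := congrFun hr j
        simp only [Matrix.mulVec, dotProduct, Pi.zero_apply] at this
        rw [← this]
        refine Finset.sum_congr rfl fun k _ => ?_
        rw [show B k j = B j k from congrFun (congrFun hsym j) k]
        exact mul_comm _ _
      · simp [hP _ i hi', hi', hj]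
  have hγ : Pᵀ * β * P + (Pᵀ * β * P)ᵀ = Pᵀ * B * P := by
    rw [Matrix.transpose_mul, Matrix.transpose_mul, Matrix.transpose_transpose, Matrix.mul_add,
      Matrix.add_mul, Matrix.mul_assoc, Matrix.mul_assoc]
  have h1 := hd_congr hn β P
  rw [hd_of_split hn (γ := Pᵀ * β * P) (i₀ := i₀) (fun j hj => ?_)] at h1
  · have h2 : minorMat (Pᵀ * β * P + (Pᵀ * β * P)ᵀ) i₀ = minorMat B i₀ := by
      ext i j
      simp only [minorMat, Matrix.of_apply, hγ]
      by_cases hij : i = i₀ ∨ j = i₀
      · rw [if_pos hij, if_pos hij]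
      · rw [if_neg hij, if_neg hij, hfull, if_neg hij]
    rw [h2, hmin, mul_zero, det_colMat] at h1
    exact (mul_eq_zero.1 h1.symm).resolve_left (pow_ne_zero _ hi)
  · have := hfull i₀ j
    rw [← hγ, Matrix.add_apply, Matrix.transpose_apply, if_pos (Or.inl rfl)] at this
    exact this

/-- The upper triangular representative of coefficients, with the pairs through `i₀` in its column. -/
def triMat (c : Sym2 (Fin n) → A) (i₀ : Fin n) : Matrix (Fin n) (Fin n) A :=
  Matrix.of fun i j => if i = i₀ then 0 else if j = i₀ then c (Sym2.mk i j) else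
    if i ≤ j then c (Sym2.mk i j) else 0

lemma coeffsOf_triMat (c : Sym2 (Fin n) → A) (i₀ : Fin n) {i j : Fin n} (h : ¬(i = i₀ ∧ j = i₀)) :
    coeffsOf (triMat c i₀) (Sym2.mk i j) = c (Sym2.mk i j) := by
  rw [coeffsOf_mk]
  simp only [triMat, Matrix.of_apply]
  by_cases hij : i = j
  · subst hij
    rw [if_pos rfl]
    have : i ≠ i₀ := fun h' => h ⟨h', h'⟩
    rw [if_neg this, if_neg this, if_pos le_rfl]
  · rw [if_neg hij, Sym2.eq_swap (a := j) (b := i)]
    by_cases hi : i = i₀
    · subst hi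
      simp [Ne.symm hij]
    · by_cases hj : j = i₀
      · subst hj
        simp [hi]
      · rcases lt_or_gt_of_ne hij with hlt | hgt
        · simp [hi, hj, hlt.le, not_le.2 hlt]
        · simp [hi, hj, hgt.le, not_le.2 hgt]

/-- The upper triangular representative of coefficients. -/
def upperMat (c : Sym2 (Fin n) → A) : Matrix (Fin n) (Fin n) A :=
  Matrix.of fun i j => if i ≤ j then c (Sym2.mk i j) else 0

lemma coeffsOf_upperMat (c : Sym2 (Fin n) → A) : coeffsOf (upperMat c) = c := by
  funext z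
  induction z using Sym2.inductionOn with
  | hf i j =>
    rw [coeffsOf_mk]
    simp only [upperMat, Matrix.of_apply]
    by_cases hij : i = j
    · subst hij; simp
    · rw [if_neg hij, Sym2.eq_swap (a := j) (b := i)]
      rcases lt_or_gt_of_ne hij with hlt | hgt
      · simp [hlt.le, not_le.2 hlt]
      · simp [hgt.le, not_le.2 hgt]

/-- Alternating matrices stay alternating under congruence. -/
lemma coeffsOf_congr_alt {Z : Matrix (Fin n) (Fin n) A} (hZ : coeffsOf Z = 0) (P : Matrix (Fin n) (Fin n) A) :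
    coeffsOf (Pᵀ * Z * P) = 0 := by
  classical
  have hdiag : ∀ i, Z i i = 0 := fun i => by
    simpa [coeffsOf_mk] using congrFun hZ (Sym2.mk i i)
  have hanti : ∀ i j, i ≠ j → Z i j + Z j i = 0 := fun i j h => by
    simpa [coeffsOf_mk, h] using congrFun hZ (Sym2.mk i j)
  have hT : Zᵀ = -Z := by
    ext i j
    by_cases h : i = j
    · subst h; simp [hdiag]
    · exact eq_neg_of_add_eq_zero_left (hanti j i (Ne.symm h))
  have h2 : (Pᵀ * Z * P)ᵀ = -(Pᵀ * Z * P) := by
    rw [Matrix.transpose_mul, Matrix.transpose_mul, Matrix.transpose_transpose, hT, Matrix.neg_mul,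
      Matrix.mul_neg, Matrix.mul_assoc]
  funext z
  induction z using Sym2.inductionOn with
  | hf i j =>
    rw [coeffsOf_mk, Pi.zero_apply]
    by_cases hij : i = j
    · subst hij
      rw [if_pos rfl]
      simp only [Matrix.mul_apply, Matrix.transpose_apply, Finset.sum_mul]
      rw [← Finset.sum_product']
      refine Finset.sum_involution (fun p _ => p.swap) (fun p _ => ?_) (fun p _ hne heq => hne ?_)
        (fun p _ => Finset.mem_univ _) (fun p _ => Prod.swap_swap p)
      · by_cases hp : p.2 = p.1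
        · simp [Prod.swap, hp, hdiag]
        · simp only [Prod.fst_swap, Prod.snd_swap]
          linear_combination (P p.2 i * P p.1 i) * hanti p.2 p.1 hp
      · have : p.2 = p.1 := congrArg Prod.fst heq
        simp [this, hdiag]
    · rw [if_neg hij]
      have := congrFun (congrFun h2 i) j
      rw [Matrix.transpose_apply, Matrix.neg_apply] at this
      rw [this]
      exact add_neg_cancel _

lemma coeffsOf_congr_cancel {P : Matrix (Fin n) (Fin n) A} (hP : IsUnit P.det) {d : Sym2 (Fin n) → A}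
    (h : ∃ X, coeffsOf X = d ∧ coeffsOf (Pᵀ * X * P) = 0) : d = 0 := by
  obtain ⟨X, hX, h0⟩ := h
  have h1 := coeffsOf_congr_alt h0 P⁻¹
  rw [← hX, ← h1]
  congr 1
  rw [Matrix.transpose_nonsing_inv, ← Matrix.mul_assoc, ← Matrix.mul_assoc, Matrix.nonsing_inv_mul _
    (by rwa [Matrix.det_transpose]), Matrix.one_mul, Matrix.mul_assoc, Matrix.mul_nonsing_inv _ hP, Matrix.mul_one]

lemma coeffsOf_mem (I : Ideal A) {X : Matrix (Fin n) (Fin n) A} (h : ∀ i j, X i j ∈ I) (z : Sym2 (Fin n)) :
    coeffsOf X z ∈ I := by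
  induction z using Sym2.inductionOn with
  | hf i j =>
    rw [coeffsOf_mk]
    split_ifs
    · exact h i i
    · exact I.add_mem (h i j) (h j i)

section SquareZero

variable (I : Ideal A) (hI : ∀ a ∈ I, ∀ b ∈ I, a * b = 0)

lemma det_one_add (K : Matrix (Fin n) (Fin n) A) (hK : ∀ i j, K i j ∈ I)
    (hI : ∀ a ∈ I, ∀ b ∈ I, a * b = 0) : (1 + K).det = 1 + K.trace := by
  classical
  rw [Matrix.det_apply]
  rw [Finset.sum_eq_single (1 : Equiv.Perm (Fin n))]
  · simp only [Equiv.Perm.sign_one, one_smul, Equiv.Perm.one_apply, Matrix.trace, Matrix.diag,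
      Matrix.add_apply, Matrix.one_apply_eq]
    have : ∀ s : Finset (Fin n), ∏ i ∈ s, (1 + K i i) = 1 + ∑ i ∈ s, K i i := by
      intro s
      induction s using Finset.induction_on with
      | empty => simp
      | insert a s ha ih =>
        rw [Finset.prod_insert ha, Finset.sum_insert ha, ih, add_mul, one_mul, mul_add, mul_one,
          hI _ (hK a a) _ (Submodule.sum_mem _ fun i _ => hK i i), add_zero]
        abel
    exact this Finset.univ
  · intro σ _ hσ
    obtain ⟨a, ha⟩ : ∃ a, σ a ≠ a := by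
      by_contra hh
      push Not at hh
      exact hσ (Equiv.ext hh)
    rw [← Finset.mul_prod_erase Finset.univ _ (Finset.mem_univ a),
      ← Finset.mul_prod_erase (Finset.univ.erase a) _ (Finset.mem_erase.2 ⟨ha, Finset.mem_univ (σ a)⟩),
      ← mul_assoc]
    have h1 : (1 + K) (σ a) a ∈ I := by rw [Matrix.add_apply, Matrix.one_apply_ne ha, zero_add]; exact hK _ _
    have hne : σ (σ a) ≠ σ a := fun hh => ha (σ.injective hh)
    have h2 : (1 + K) (σ (σ a)) (σ a) ∈ I := by
      rw [Matrix.add_apply, Matrix.one_apply_ne hne, zero_add]; exact hK _ _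
    rw [hI _ h1 _ h2, zero_mul, smul_zero]
  · exact fun hh => absurd (Finset.mem_univ _) hh

include hI in
lemma mul_eq_zero_of_mem {K L : Matrix (Fin n) (Fin n) A} (hK : ∀ i j, K i j ∈ I) (hL : ∀ i j, L i j ∈ I) :
    K * L = 0 := by
  ext i j
  rw [Matrix.mul_apply, Matrix.zero_apply]
  exact Finset.sum_eq_zero fun k _ => hI _ (hK i k) _ (hL k j)

include hI in
lemma coeffsOf_congr_one_add (γ K : Matrix (Fin n) (Fin n) A) (hK : ∀ i j, K i j ∈ I) :
    coeffsOf ((1 + K)ᵀ * γ * (1 + K)) = coeffsOf γ + coeffsOf ((γ + γᵀ) * K) := by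
  have h0 : Kᵀ * (γ * K) = 0 := mul_eq_zero_of_mem I hI (fun i j => hK j i) (fun i j => by
    rw [Matrix.mul_apply]; exact Submodule.sum_mem _ fun k _ => I.mul_mem_left _ (hK k j))
  have h1 : coeffsOf (Kᵀ * γ) = coeffsOf (γᵀ * K) := by
    rw [← coeffsOf_transpose, Matrix.transpose_mul, Matrix.transpose_transpose]
  rw [Matrix.transpose_add, Matrix.transpose_one, Matrix.mul_assoc, Matrix.add_mul, Matrix.one_mul,
    Matrix.mul_add, Matrix.mul_one, Matrix.mul_add, h0, add_zero]
  simp only [coeffsOf_add, Matrix.add_mul, h1]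
  abel

include hI in
/-- Correct an isometry modulo `I` when the polar form is perfect. -/
lemma exists_fix_regular (β γ : Matrix (Fin n) (Fin n) A) (hB : IsUnit (β + βᵀ).det)
    (hU : ∀ z, coeffsOf γ z - coeffsOf β z ∈ I) :
    ∃ K : Matrix (Fin n) (Fin n) A, (∀ i j, K i j ∈ I) ∧
      coeffsOf γ - coeffsOf β + coeffsOf ((β + βᵀ) * K) = 0 := by
  refine ⟨-((β + βᵀ)⁻¹ * upperMat (coeffsOf γ - coeffsOf β)), fun i j => ?_, ?_⟩
  · rw [Matrix.neg_apply, Matrix.mul_apply]
    refine I.neg_mem (Submodule.sum_mem _ fun k _ => I.mul_mem_left _ ?_)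
    simp only [upperMat, Matrix.of_apply]
    split_ifs
    · exact hU _
    · exact I.zero_mem
  · rw [Matrix.mul_neg, ← Matrix.mul_assoc, Matrix.mul_nonsing_inv _ hB, Matrix.one_mul, coeffsOf_neg,
      coeffsOf_upperMat, add_neg_cancel]

include hI in
lemma polar_mul_eq (β γ : Matrix (Fin n) (Fin n) A) (hU : ∀ z, coeffsOf γ z - coeffsOf β z ∈ I)
    {K : Matrix (Fin n) (Fin n) A} (hK : ∀ i j, K i j ∈ I) :
    (γ + γᵀ) * K = (β + βᵀ) * K := by
  rw [← sub_eq_zero, ← Matrix.sub_mul]
  refine mul_eq_zero_of_mem I hI (fun i j => ?_) hK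
  have := hU (Sym2.mk i j)
  rw [coeffsOf_mk, coeffsOf_mk] at this
  simp only [Matrix.sub_apply, Matrix.add_apply, Matrix.transpose_apply]
  by_cases hij : i = j
  · subst hij
    rw [if_pos rfl, if_pos rfl] at this
    convert I.add_mem this this using 1
    ring
  · rwa [if_neg hij, if_neg hij] at this

lemma eq_one_of_sq [Invertible (2 : A)] {d : A} (hI : ∀ a ∈ I, ∀ b ∈ I, a * b = 0) (hd' : d - 1 ∈ I)
    (h : d * d = 1) : d = 1 := by
  have h2 : (2 : A) * (d - 1) = 0 := by linear_combination h - hI _ hd' _ hd'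
  have := congrArg (⅟ (2 : A) * ·) h2
  simp only [← mul_assoc, invOf_mul_self, one_mul, mul_zero] at this
  exact sub_eq_zero.1 this

include hI in
/-- Over a local ring, correct an isometry of determinant one modulo `I`. -/
lemma exists_fix_local [IsLocalRing A] (hn : Odd n) (β γ : Matrix (Fin n) (Fin n) A) (hu : IsUnit (hd β))
    (hU : ∀ z, coeffsOf γ z - coeffsOf β z ∈ I) (hγ : hd γ = hd β) :
    ∃ K : Matrix (Fin n) (Fin n) A, (∀ i j, K i j ∈ I) ∧ K.trace = 0 ∧
      coeffsOf γ - coeffsOf β + coeffsOf ((β + βᵀ) * K) = 0 := by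
  by_cases h2 : IsUnit (2 : A)
  · haveI := h2.invertible
    obtain ⟨K, hK, hK'⟩ := exists_fix_regular I hI β γ (by rw [← two_mul_hd hn]; exact h2.mul hu) hU
    refine ⟨K, hK, ?_, hK'⟩
    have hc : coeffsOf ((1 + K)ᵀ * γ * (1 + K)) = coeffsOf β := by
      rw [coeffsOf_congr_one_add I hI γ K hK, polar_mul_eq I hI β γ hU hK]
      rwa [sub_add_eq_add_sub, sub_eq_zero] at hK'
    have hdet := hd_congr hn γ (1 + K)
    rw [hd_of_coeffsOf_eq hc, det_one_add I K hK hI, hγ] at hdet
    have hsq : (1 + K.trace) * (1 + K.trace) = 1 := by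
      rw [← sq]
      exact hu.mul_right_cancel (by rw [one_mul]; exact hdet.symm)
    have := eq_one_of_sq I hI (d := 1 + K.trace)
      (by rw [add_sub_cancel_left]; exact Submodule.sum_mem _ fun i _ => hK i i) hsq
    exact add_eq_left.1 this
  have h2m : (2 : A) ∈ IsLocalRing.maximalIdeal A := h2
  haveI : CharP (IsLocalRing.ResidueField A) 2 := by
    refine CharTwo.of_one_ne_zero_of_two_eq_zero one_ne_zero ?_
    rw [← map_ofNat (IsLocalRing.residue A) 2, IsLocalRing.residue_eq_zero_iff]
    exact h2m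
  obtain ⟨i₀, hi₀⟩ := exists_minor hn (β.map (IsLocalRing.residue A)) (by
    rw [← hd_map]; exact (hu.map _).ne_zero)
  let B := β + βᵀ
  have hM : IsUnit (minorMat B i₀).det := by
    refine (IsLocalRing.residue_ne_zero_iff_isUnit _).1 ?_
    rw [RingHom.map_det, RingHom.mapMatrix_apply, minorMat_map, Matrix.map_add _ (map_add _),
      Matrix.transpose_map]
    exact hi₀
  let M := minorMat B i₀
  let b : Fin n → A := fun i => if i = i₀ then 0 else B i i₀
  let r : Fin n → A := Function.update (-(M⁻¹ *ᵥ b)) i₀ 1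
  let P := colMat r i₀
  have hPdet : P.det = 1 := by rw [det_colMat]; exact Function.update_self _ _ _
  have hPcol : ∀ k, P k i₀ = r k := fun k => Matrix.updateCol_self
  have hP : ∀ k j, j ≠ i₀ → P k j = if k = j then 1 else 0 := fun k j hj => by
    change ((1 : Matrix (Fin n) (Fin n) A).updateCol i₀ r) k j = _
    rw [Matrix.updateCol_ne hj]
    exact Matrix.one_apply
  have hcol : ∀ i, i ≠ i₀ → (B * P) i i₀ = 0 := by
    intro i hi
    rw [Matrix.mul_apply]
    simp only [hPcol]
    have hMb : (M *ᵥ (M⁻¹ *ᵥ b)) i = b i := by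
      rw [Matrix.mulVec_mulVec, Matrix.mul_nonsing_inv _ hM, Matrix.one_mulVec]
    rw [← Finset.add_sum_erase _ _ (Finset.mem_univ i₀)]
    simp only [Matrix.mulVec, dotProduct] at hMb
    rw [← Finset.add_sum_erase _ _ (Finset.mem_univ i₀)] at hMb
    have h0 : M i i₀ = 0 := by simp [M, minorMat, hi]
    rw [h0, zero_mul, zero_add] at hMb
    have he : ∑ k ∈ Finset.univ.erase i₀, B i k * r k = -b i := by
      rw [← hMb, ← Finset.sum_neg_distrib]
      refine Finset.sum_congr rfl fun k hk => ?_
      have hk' := Finset.ne_of_mem_erase hk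
      simp [r, M, minorMat, hi, hk', Function.update_of_ne hk', Matrix.mulVec, dotProduct]
    rw [he]
    simp [r, b, hi]
  let β' := Pᵀ * β * P
  let γ' := Pᵀ * γ * P
  let B' := β' + β'ᵀ
  have hB' : B' = Pᵀ * B * P := by
    simp only [B', β', B]
    rw [Matrix.transpose_mul, Matrix.transpose_mul, Matrix.transpose_transpose, Matrix.mul_add,
      Matrix.add_mul, Matrix.mul_assoc, Matrix.mul_assoc]
  have hrow : ∀ j, j ≠ i₀ → B' j i₀ = 0 ∧ β' i₀ j + β' j i₀ = 0 := by
    intro j hj
    have h1 : B' j i₀ = 0 := by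
      rw [hB', Matrix.mul_assoc, Matrix.mul_apply]
      simp only [Matrix.transpose_apply, hP _ j hj, ite_mul, one_mul, zero_mul, Finset.sum_ite_eq',
        Finset.mem_univ, if_true]
      exact hcol j hj
    exact ⟨h1, by rw [add_comm]; exact h1⟩
  have hMB : minorMat B' i₀ = M := by
    ext i j
    simp only [M, minorMat, Matrix.of_apply]
    by_cases hij : i = i₀ ∨ j = i₀
    · rw [if_pos hij, if_pos hij]
    · rw [if_neg hij, if_neg hij]
      push Not at hij
      rw [hB', Matrix.mul_apply]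
      simp [Matrix.mul_apply, hP _ i hij.1, hP _ j hij.2]
  have hcongr : ∀ {X Y : Matrix (Fin n) (Fin n) A}, coeffsOf X = coeffsOf Y →
      coeffsOf (Pᵀ * X * P) = coeffsOf (Pᵀ * Y * P) := by
    intro X Y hXY
    have h1 : X = Y + (X - Y) := by abel
    have halt : coeffsOf (X - Y) = 0 := by
      rw [sub_eq_add_neg, coeffsOf_add, coeffsOf_neg, hXY, add_neg_cancel]
    rw [h1, Matrix.mul_add, Matrix.add_mul, coeffsOf_add, coeffsOf_congr_alt halt P, add_zero]
  let c : Sym2 (Fin n) → A := coeffsOf γ' - coeffsOf β'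
  have hc : ∀ z, c z ∈ I := by
    intro z
    have h1 : γ' - β' = Pᵀ * (γ - β) * P := by
      simp only [γ', β', Matrix.mul_sub, Matrix.sub_mul]
    have h2 : coeffsOf (γ - β) = coeffsOf (upperMat (coeffsOf γ - coeffsOf β)) := by
      rw [coeffsOf_upperMat, sub_eq_add_neg γ β, coeffsOf_add, coeffsOf_neg, sub_eq_add_neg]
    have h3 : c = coeffsOf (Pᵀ * upperMat (coeffsOf γ - coeffsOf β) * P) := by
      rw [← hcongr h2, ← h1, sub_eq_add_neg γ' β', coeffsOf_add, coeffsOf_neg, ← sub_eq_add_neg]
    rw [h3]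
    refine coeffsOf_mem I (fun i j => ?_) z
    rw [Matrix.mul_apply]
    refine Submodule.sum_mem _ fun k _ => I.mul_mem_right _ ?_
    rw [Matrix.mul_apply]
    refine Submodule.sum_mem _ fun l _ => I.mul_mem_left _ ?_
    simp only [upperMat, Matrix.of_apply]
    split_ifs
    · exact hU _
    · exact I.zero_mem
  let T := triMat c i₀
  have hT : ∀ i j, T i j ∈ I := fun i j => by
    simp only [T, triMat, Matrix.of_apply]
    split_ifs <;> first | exact I.zero_mem | exact hc _
  let K₀ : Matrix (Fin n) (Fin n) A := -(M⁻¹ * T)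
  have hK₀ : ∀ i j, K₀ i j ∈ I := fun i j => by
    simp only [K₀, Matrix.neg_apply, Matrix.mul_apply]
    exact I.neg_mem (Submodule.sum_mem _ fun k _ => I.mul_mem_left _ (hT k j))
  let κ := -K₀.trace
  let D : Matrix (Fin n) (Fin n) A := Matrix.diagonal (Pi.single i₀ κ)
  let K' := K₀ + D
  have hK' : ∀ i j, K' i j ∈ I := fun i j => by
    change K₀ i j + D i j ∈ I
    refine I.add_mem (hK₀ i j) ?_
    simp only [D, Matrix.diagonal_apply, Pi.single_apply]
    split_ifs <;> first
      | exact I.zero_mem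
      | exact I.neg_mem (Submodule.sum_mem _ fun k _ => hK₀ k k)
  have htr : K'.trace = 0 := by
    simp [K', D, κ, Matrix.trace_add, Matrix.trace_diagonal]
  have hMK : M * K₀ = -T := by
    rw [Matrix.mul_neg, ← Matrix.mul_assoc, Matrix.mul_nonsing_inv _ hM, Matrix.one_mul]
  have hK0row : ∀ j, K₀ i₀ j = 0 := fun j => by
    have h1 := congrFun (congrFun hMK i₀) j
    simpa [Matrix.mul_apply, M, minorMat, T, triMat] using h1
  have hBK : ∀ i j, (B' * K₀) i j = -T i j := fun i j => by
    by_cases hi : i = i₀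
    · subst hi
      rw [Matrix.mul_apply]
      have : T i j = 0 := by simp [T, triMat]
      rw [this, neg_zero]
      refine Finset.sum_eq_zero fun k _ => ?_
      by_cases hk : k = i
      · subst hk; rw [hK0row, mul_zero]
      · rw [show B' i k = 0 from (hrow k hk).2, zero_mul]
    · rw [← Matrix.neg_apply, ← hMK, Matrix.mul_apply, Matrix.mul_apply]
      refine Finset.sum_congr rfl fun k _ => ?_
      by_cases hk : k = i₀
      · subst hk; rw [hK0row, mul_zero, mul_zero]
      · rw [← hMB]; simp [minorMat, hi, hk]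
  let out : Sym2 (Fin n) → A := c + coeffsOf (B' * K')
  have hoff : ∀ i j, ¬(i = i₀ ∧ j = i₀) → out (Sym2.mk i j) = 0 := by
    intro i j hij
    have hBD : ∀ k l, (B' * D) k l = if k = i₀ ∧ l = i₀ then B' i₀ i₀ * κ else 0 := fun k l => by
      simp only [D, Matrix.mul_diagonal, Pi.single_apply]
      by_cases hl : l = i₀
      · subst hl
        by_cases hk : k = l
        · subst hk; simp
        · simp [hk, (hrow k hk).1]
      · simp [hl]
    have h1 : coeffsOf (B' * K₀) = -coeffsOf T := by
      rw [← coeffsOf_neg]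
      exact congrArg coeffsOf (Matrix.ext hBK)
    simp only [out, K', Matrix.mul_add, coeffsOf_add, h1, Pi.add_apply, Pi.neg_apply, T,
      coeffsOf_triMat c i₀ hij]
    rw [coeffsOf_mk]
    by_cases hij' : i = j
    · subst hij'
      have : i ≠ i₀ := fun h => hij ⟨h, h⟩
      simp [hBD, this]
    · rw [if_neg hij', hBD, hBD, if_neg hij, if_neg (fun h => hij ⟨h.2, h.1⟩)]
      abel
  have hPu : IsUnit P.det := by rw [hPdet]; exact isUnit_one
  let N := (1 + K')ᵀ * γ' * (1 + K')
  have hU' : ∀ z, coeffsOf γ' z - coeffsOf β' z ∈ I := hc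
  have hN : coeffsOf N = coeffsOf β' + out := by
    rw [coeffsOf_congr_one_add I hI γ' K' hK', polar_mul_eq I hI β' γ' hU' hK']
    simp only [out, c, B']
    abel
  have hNdiag : out (Sym2.mk i₀ i₀) = 0 := by
    have e1 : hd N = hd β' := by
      simp only [N, γ', β']
      rw [hd_congr hn, det_one_add I K' hK' hI, htr, add_zero, one_pow, one_mul, hd_congr hn,
        hd_congr hn β, hγ]
    have hval : ∀ i j, ¬(i = i₀ ∧ j = i₀) → coeffsOf N (Sym2.mk i j) = coeffsOf β' (Sym2.mk i j) :=
      fun i j hij => by rw [hN, Pi.add_apply, hoff i j hij, add_zero]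
    have hNrow : ∀ j, j ≠ i₀ → N i₀ j + N j i₀ = 0 := fun j hj => by
      have := hval i₀ j (fun h => hj h.2)
      rw [coeffsOf_mk, coeffsOf_mk, if_neg (Ne.symm hj), if_neg (Ne.symm hj), (hrow j hj).2] at this
      exact this
    rw [hd_of_split hn hNrow, hd_of_split hn (fun j hj => (hrow j hj).2)] at e1
    have hm : minorMat (N + Nᵀ) i₀ = minorMat (β' + β'ᵀ) i₀ := by
      ext i j
      simp only [minorMat, Matrix.of_apply]
      by_cases hij : i = i₀ ∨ j = i₀
      · rw [if_pos hij, if_pos hij]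
      · rw [if_neg hij, if_neg hij]
        push Not at hij
        have := hval i j (fun h => hij.1 h.1)
        rw [coeffsOf_mk, coeffsOf_mk] at this
        simp only [Matrix.add_apply, Matrix.transpose_apply]
        by_cases h' : i = j
        · subst h'; rw [if_pos rfl, if_pos rfl] at this; rw [this]
        · rwa [if_neg h', if_neg h'] at this
    rw [hm] at e1
    have e2 : N i₀ i₀ = β' i₀ i₀ := by
      refine IsUnit.mul_right_cancel ?_ e1
      exact hMB.symm ▸ hM
    have := congrFun hN (Sym2.mk i₀ i₀)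
    rw [coeffsOf_mk, if_pos rfl, Pi.add_apply, coeffsOf_mk, if_pos rfl, e2] at this
    exact left_eq_add.1 this
  have hout : c + coeffsOf (B' * K') = 0 := by
    funext z
    induction z using Sym2.inductionOn with
    | hf i j =>
      by_cases hij : i = i₀ ∧ j = i₀
      · rw [hij.1, hij.2]; exact hNdiag
      · exact hoff i j hij
  refine ⟨P * K' * P⁻¹, fun i j => ?_, ?_, ?_⟩
  · rw [Matrix.mul_apply]
    refine Submodule.sum_mem _ fun k _ => I.mul_mem_right _ ?_
    rw [Matrix.mul_apply]
    exact Submodule.sum_mem _ fun l _ => I.mul_mem_left _ (hK' l k)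
  · rw [Matrix.trace_mul_comm, ← Matrix.mul_assoc, Matrix.nonsing_inv_mul _ hPu, Matrix.one_mul, htr]
  · refine coeffsOf_congr_cancel hPu ?_
    let X := γ - β + (β + βᵀ) * (P * K' * P⁻¹)
    refine ⟨X, ?_, ?_⟩
    · simp only [X, coeffsOf_add, sub_eq_add_neg, coeffsOf_neg]
    · have : Pᵀ * X * P = γ' - β' + B' * K' := by
        simp only [X, γ', β', hB', B, Matrix.mul_add, Matrix.add_mul, Matrix.mul_sub, Matrix.sub_mul,
          Matrix.mul_assoc, Matrix.nonsing_inv_mul _ hPu, Matrix.mul_one]
      rw [this, coeffsOf_add, sub_eq_add_neg, coeffsOf_add, coeffsOf_neg, ← sub_eq_add_neg]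
      exact hout

end SquareZero

end Groth.Agent.QuadLib
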