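import Groth.Agent.QuadLib.MatLift
import Mathlib.RingTheory.Localization.Integer

/-!
# Lifting isometries: globalisation
-/

noncomputable section

universe u

open Matrix

namespace Groth.Agent.QuadLib

variable {A : Type u} [CommRing A] {n : ℕ} (I : Ideal A) (hI : ∀ a ∈ I, ∀ b ∈ I, a * b = 0)

include hI in
/-- Correct an isometry of determinant one modulo `I`. -/
lemma exists_fix_odd (hn : Odd n) (β γ : Matrix (Fin n) (Fin n) A) (hu : IsUnit (hd β))
    (hU : ∀ z, coeffsOf γ z - coeffsOf β z ∈ I) (hγ : hd γ = hd β) :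
    ∃ K : Matrix (Fin n) (Fin n) A, (∀ i j, K i j ∈ I) ∧ K.trace = 0 ∧
      coeffsOf γ - coeffsOf β + coeffsOf ((β + βᵀ) * K) = 0 := by
  classical
  let J : Ideal A :=
    { carrier := {s | ∃ K : Matrix (Fin n) (Fin n) A, (∀ i j, K i j ∈ I) ∧ K.trace = 0 ∧
        s • (coeffsOf γ - coeffsOf β) + coeffsOf ((β + βᵀ) * K) = 0}
      zero_mem' := ⟨0, fun i j => I.zero_mem, by simp, by
        funext z; induction z using Sym2.inductionOn with
        | hf i j => simp [coeffsOf_mk]⟩
      add_mem' := by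
        rintro a b ⟨K, hK, hKt, hK'⟩ ⟨L, hL, hLt, hL'⟩
        refine ⟨K + L, fun i j => I.add_mem (hK i j) (hL i j), by rw [Matrix.trace_add, hKt, hLt, add_zero], ?_⟩
        rw [Matrix.mul_add, coeffsOf_add, add_smul, add_add_add_comm, hK', hL', add_zero]
      smul_mem' := by
        rintro c a ⟨K, hK, hKt, hK'⟩
        refine ⟨c • K, fun i j => I.mul_mem_left c (hK i j), by rw [Matrix.trace_smul, hKt, smul_zero], ?_⟩
        rw [Matrix.mul_smul, coeffsOf_smul, smul_eq_mul, mul_smul, ← smul_add, hK', smul_zero] }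
  suffices hJ : J = ⊤ by
    obtain ⟨K, hK, hKt, hK'⟩ := (show (1 : A) ∈ J by rw [hJ]; trivial)
    exact ⟨K, hK, hKt, by rwa [one_smul] at hK'⟩
  by_contra hJ
  obtain ⟨m, hm, hJm⟩ := Ideal.exists_le_maximal J hJ
  haveI := hm.isPrime
  let L := Localization.AtPrime m
  let φ : A →+* L := algebraMap A L
  let I' := I.map φ
  have hmem : ∀ {x : L}, x ∈ I' → ∃ a ∈ I, ∃ s : m.primeCompl, x * φ s = φ a := fun {x} hx => by
    obtain ⟨⟨⟨a, ha⟩, s⟩, hs⟩ := (IsLocalization.mem_map_algebraMap_iff m.primeCompl L).1 hx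
    exact ⟨a, ha, s, hs⟩
  have hI' : ∀ x ∈ I', ∀ y ∈ I', x * y = 0 := fun x hx y hy => by
    obtain ⟨a, ha, s, hs⟩ := hmem hx
    obtain ⟨b, hb, t, ht⟩ := hmem hy
    refine ((IsLocalization.map_units L s).mul (IsLocalization.map_units L t)).mul_left_eq_zero.1 ?_
    rw [mul_mul_mul_comm, hs, ht, ← map_mul, hI a ha b hb, map_zero]
  obtain ⟨K, hK, hKt, hK'⟩ := exists_fix_local I' hI' hn (β.map φ) (γ.map φ)
    (by rw [← hd_map]; exact hu.map φ)
    (fun z => by
      rw [coeffsOf_map, coeffsOf_map, Function.comp_apply, Function.comp_apply, ← map_sub]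
      exact Ideal.mem_map_of_mem φ (hU z))
    (by rw [← hd_map, ← hd_map, hγ])
  choose a ha s hs using fun p : Fin n × Fin n => hmem (hK p.1 p.2)
  let S : m.primeCompl := ∏ p, s p
  let K' : Matrix (Fin n) (Fin n) A := Matrix.of fun i j => a (i, j) * ↑(∏ p ∈ Finset.univ.erase (i, j), s p)
  have hK'm : ∀ i j, φ (K' i j) = φ S * K i j := fun i j => by
    have hS : S = s (i, j) * ∏ p ∈ Finset.univ.erase (i, j), s p :=
      (Finset.mul_prod_erase Finset.univ s (Finset.mem_univ _)).symm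
    simp only [K', Matrix.of_apply, map_mul]
    rw [← hs (i, j), hS, Submonoid.coe_mul, map_mul]
    ring
  have hmap : K'.map φ = φ S • K := by
    ext i j
    rw [Matrix.map_apply, hK'm, Matrix.smul_apply, smul_eq_mul]
  have hz : ∀ z, φ ((S : A) * (coeffsOf γ z - coeffsOf β z) + coeffsOf ((β + βᵀ) * K') z) = 0 := fun z => by
    rw [map_add, map_mul, map_sub]
    have h1 : φ (coeffsOf ((β + βᵀ) * K') z) = φ S * coeffsOf ((β.map φ + (β.map φ)ᵀ) * K) z := by
      rw [← Function.comp_apply (f := φ), ← coeffsOf_map, Matrix.map_mul, hmap, Matrix.map_add _ (map_add φ),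
        Matrix.transpose_map, Matrix.mul_smul, coeffsOf_smul]
      rfl
    have h2 := congrFun hK' z
    rw [Pi.add_apply, Pi.sub_apply, coeffsOf_map, coeffsOf_map, Function.comp_apply, Function.comp_apply,
      Pi.zero_apply] at h2
    rw [h1, ← mul_add, h2, mul_zero]
  have htr : φ K'.trace = 0 := by
    rw [AddMonoidHom.map_trace]
    change (K'.map φ).trace = 0
    rw [hmap, Matrix.trace_smul, hKt, smul_zero]
  choose t ht using fun z => (IsLocalization.map_eq_zero_iff m.primeCompl L _).1 (hz z)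
  obtain ⟨t₀, ht₀⟩ := (IsLocalization.map_eq_zero_iff m.primeCompl L _).1 htr
  let T : A := ↑((∏ z, t z) * t₀)
  have hTS : T * S ∈ J := by
    refine ⟨T • K', fun i j => I.mul_mem_left _ (I.mul_mem_right _ (ha _)), ?_, ?_⟩
    · rw [Matrix.trace_smul, smul_eq_mul]
      simp only [T, Submonoid.coe_mul]
      rw [mul_assoc, ht₀, mul_zero]
    · funext z
      rw [Matrix.mul_smul, coeffsOf_smul]
      simp only [Pi.add_apply, Pi.smul_apply, Pi.sub_apply, smul_eq_mul, Pi.zero_apply]
      rw [mul_assoc, ← mul_add]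
      simp only [T, ← Finset.mul_prod_erase Finset.univ t (Finset.mem_univ z), Submonoid.coe_mul]
      linear_combination (↑(∏ p ∈ Finset.univ.erase z, t p) * (t₀ : A)) * ht z
  exact hm.isPrime.mul_notMem (SetLike.coe_mem ((∏ z, t z) * t₀)) (SetLike.coe_mem S) (hJm hTS)

end Groth.Agent.QuadLib
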