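import Groth.Agent.QuadLib.Generic
import Mathlib.LinearAlgebra.Matrix.NonsingularInverse
import Mathlib.RingTheory.Ideal.Quotient.Basic

/-!
# Non-degenerate forms of rank at least three
-/

noncomputable section

universe u

open TensorProduct

namespace Groth.Agent.QuadLib

lemma det_eq_zero_of_minors {K : Type*} [Field K] {n : ℕ} (hn : 2 ≤ n) (M : Matrix (Fin n) (Fin n) K)
    (h : ∀ i j a b, M i a * M j b - M i b * M j a = 0) : M.det = 0 := by
  let i₀ : Fin n := ⟨0, by omega⟩
  let i₁ : Fin n := ⟨1, by omega⟩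
  have hne : i₁ ≠ i₀ := fun h => by simp [i₀, i₁, Fin.ext_iff] at h
  by_cases h0 : ∀ a, M i₀ a = 0
  · exact Matrix.det_eq_zero_of_row_eq_zero i₀ h0
  push Not at h0
  obtain ⟨a, ha⟩ := h0
  have hrow : M = M.updateRow i₁ ((M i₁ a / M i₀ a) • M i₀) := by
    ext i b
    by_cases hi : i = i₁
    · subst hi
      rw [Matrix.updateRow_self, Pi.smul_apply, smul_eq_mul, div_mul_eq_mul_div, eq_div_iff ha]
      linear_combination h i₀ i₁ a b
    · rw [Matrix.updateRow_ne hi]
  rw [hrow, Matrix.det_updateRow_smul, Matrix.det_updateRow_eq_zero hne.symm, mul_zero]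

variable {R : Type u} [CommRing R] {n : ℕ} (Q : QuadraticForm R (Fin n → R))

lemma B₀_eq_polar (i a : Fin n) :
    B₀ Q i a = QuadraticMap.polar Q (Pi.basisFun R (Fin n) i) (Pi.basisFun R (Fin n) a) := by
  rw [polar_eq]; rfl

lemma isUnit_det_of_isRegular (hQ : QuadGrp.IsRegular Q) : IsUnit (B₀ Q).det := by
  rw [← Matrix.isUnit_iff_isUnit_det, ← Matrix.vecMul_surjective_iff_isUnit]
  intro y
  obtain ⟨x, hx⟩ := hQ.2 (∑ j, y j • LinearMap.proj j)
  refine ⟨x, funext fun a => ?_⟩
  have h := LinearMap.congr_fun hx (Pi.basisFun R (Fin n) a)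
  rw [QuadraticMap.polarBilin_apply_apply] at h
  have h2 : (∑ j, y j • (LinearMap.proj j : (Fin n → R) →ₗ[R] R)) (Pi.basisFun R (Fin n) a) = y a := by
    simp [Pi.single_apply]
  rw [← h2, ← h]
  conv_rhs => rw [← (Pi.basisFun R (Fin n)).sum_repr x]
  rw [← QuadraticMap.polarBilin_apply_apply]
  simp only [map_sum, map_smul, LinearMap.sum_apply, LinearMap.smul_apply, smul_eq_mul, Pi.basisFun_repr,
    QuadraticMap.polarBilin_apply_apply, ← B₀_eq_polar]
  rfl

theorem hasUnitMinors_of_isNondeg (hn : 3 ≤ n)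
    (hQ : QuadGrp.IsNondeg (Pi.basisFun R (Fin n)) (LinearEquiv.refl R R) Q) : HasUnitMinors Q := by
  intro m hm
  by_contra hno
  push Not at hno
  letI := Ideal.Quotient.field m
  have hmin : ∀ i j a b, ((B₀ Q).map (Ideal.Quotient.mk m)) i a * ((B₀ Q).map (Ideal.Quotient.mk m)) j b -
      ((B₀ Q).map (Ideal.Quotient.mk m)) i b * ((B₀ Q).map (Ideal.Quotient.mk m)) j a = 0 := fun i j a b => by
    simp only [Matrix.map_apply]
    rw [← map_mul, ← map_mul, ← map_sub, Ideal.Quotient.eq_zero_iff_mem]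
    exact hno i j a b
  have hdet : Ideal.Quotient.mk m (B₀ Q).det = 0 := by
    rw [RingHom.map_det]
    exact det_eq_zero_of_minors (by omega) _ hmin
  rcases Nat.even_or_odd n with he | ho
  · exact ((isUnit_det_of_isRegular Q (hQ.1 he)).map (Ideal.Quotient.mk m)).ne_zero hdet
  have hu : IsUnit (Ideal.Quotient.mk m (hd (β₀ Q))) := by
    have := hQ.2 ho
    rw [QuadGrp.IsSemiregular, halfDisc_eq] at this
    exact this.map _
  have h2 : (2 : R ⧸ m) = 0 := by
    by_contra h2
    have := congrArg (Ideal.Quotient.mk m) (two_mul_hd ho (β₀ Q))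
    rw [map_mul, map_ofNat, hdet] at this
    exact hu.ne_zero ((mul_eq_zero.1 this).resolve_left h2)
  have hdiag : ∀ i, Ideal.Quotient.mk m (B₀ Q i i) = 0 := fun i => by
    rw [show B₀ Q i i = β₀ Q i i + β₀ Q i i from rfl, map_add, ← two_mul, h2, zero_mul]
  have hoff : ∀ i j, Ideal.Quotient.mk m (β₀ Q i j) + Ideal.Quotient.mk m (β₀ Q j i) = 0 := fun i j => by
    have hsymm : B₀ Q j i = B₀ Q i j := add_comm (β₀ Q j i) (β₀ Q i j)
    have := hmin i j i j
    simp only [Matrix.map_apply, hdiag, zero_mul, zero_sub, neg_eq_zero, hsymm, mul_self_eq_zero] at this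
    rw [← map_add]
    exact this
  apply hu.ne_zero
  rw [hd_map, hd, coeffsOf_upper _ (fun i j _ => by simpa using hoff i j), ← hd, hd_diagonal ho, h2,
    zero_pow (by omega), zero_mul]

theorem exists_scalar_of_centralizes (hn : 3 ≤ n)
    (hQ : QuadGrp.IsNondeg (Pi.basisFun R (Fin n)) (LinearEquiv.refl R R) Q)
    {g : (Fin n → R) ≃ₗ[R] (Fin n → R)} (hg : g ∈ QuadGrp.O Q)
    (K : ∀ (A : Type u) [CommRing A] [Algebra R A], Set ((A ⊗[R] (Fin n → R)) ≃ₗ[A] (A ⊗[R] (Fin n → R))))
    (hK : ∀ (A : Type u) [CommRing A] [Algebra R A] (v w : A ⊗[R] (Fin n → R)) (c d : A)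
      (hc : c * QuadGrp.baseChangeForm A Q v = 1) (hd : d * QuadGrp.baseChangeForm A Q w = 1),
      refl Q hc * refl Q hd ∈ K A)
    (hcomm : ∀ (A : Type u) [CommRing A] [Algebra R A], ∀ h ∈ K A,
      g.baseChange R A (Fin n → R) (Fin n → R) * h = h * g.baseChange R A (Fin n → R) (Fin n → R)) :
    ∃ c : R, c * c = 1 ∧ ∀ v, g v = c • v :=
  exists_scalar_of_commPairs Q hn (hasUnitMinors_of_isNondeg Q hn hQ)
    (fun A _ _ v w c d hc hd => hcomm A _ (hK A v w c d hc hd)) hg

omit [CommRing R] in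
lemma commute_of_scalar {R : Type u} [CommRing R] {g : (Fin n → R) ≃ₗ[R] (Fin n → R)} {c : R}
    (hg : ∀ v, g v = c • v) (A : Type u) [CommRing A] [Algebra R A]
    (h : (A ⊗[R] (Fin n → R)) ≃ₗ[A] (A ⊗[R] (Fin n → R))) :
    g.baseChange R A (Fin n → R) (Fin n → R) * h = h * g.baseChange R A (Fin n → R) (Fin n → R) := by
  have hA : ∀ y, g.baseChange R A (Fin n → R) (Fin n → R) y = algebraMap R A c • y := by
    intro y
    induction y using TensorProduct.induction_on with
    | zero => simp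
    | tmul a v => rw [LinearEquiv.baseChange_tmul, hg, ← TensorProduct.smul_tmul, TensorProduct.smul_tmul', Algebra.smul_def, smul_eq_mul]
    | add y z hy hz => rw [map_add, hy, hz, smul_add]
  refine LinearEquiv.ext fun y => ?_
  change g.baseChange R A _ _ (h y) = h (g.baseChange R A _ _ y)
  rw [hA, hA, map_smul]

lemma refl_mul_refl_mem_orth {A : Type u} [CommRing A] [Algebra R A] {v w : A ⊗[R] (Fin n → R)} {c d : A}
    (hc : c * QuadGrp.baseChangeForm A Q v = 1) (hd : d * QuadGrp.baseChangeForm A Q w = 1) :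
    refl Q hc * refl Q hd ∈ QuadGrp.orth Q A :=
  (mem_O_form_iff Q _).2 (mul_mem (s := QuadGrp.O _) (form_refl Q hc) (form_refl Q hd))

lemma refl_mul_refl_mem_sorth' {A : Type u} [CommRing A] [Algebra R A] {v w : A ⊗[R] (Fin n → R)} {c d : A}
    (hc : c * QuadGrp.baseChangeForm A Q v = 1) (hd : d * QuadGrp.baseChangeForm A Q w = 1) :
    refl Q hc * refl Q hd ∈ QuadGrp.sorth' Q A := by
  refine ⟨refl_mul_refl_mem_orth Q hc hd, MonoidHom.mem_ker.2 (Units.ext ?_)⟩
  rw [LinearEquiv.coe_det, Units.val_one]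
  change LinearMap.det ((refl Q hc).toLinearMap * (refl Q hd).toLinearMap) = 1
  rw [map_mul, det_refl, det_refl, neg_one_mul, neg_neg]

open CliffordAlgebra in
lemma refl_mul_refl_mem_sorth (he : Even n) {A : Type u} [CommRing A] [Algebra R A]
    {v w : A ⊗[R] (Fin n → R)} {c d : A}
    (hc : c * QuadGrp.baseChangeForm A Q v = 1) (hd : d * QuadGrp.baseChangeForm A Q w = 1) :
    refl Q hc * refl Q hd ∈ QuadGrp.sorth Q A := by
  rcases subsingleton_or_nontrivial A with hA | hA
  · haveI : Subsingleton (A ⊗[R] (Fin n → R)) := Module.subsingleton A _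
    rw [show refl Q hc * refl Q hd = 1 from LinearEquiv.ext fun _ => Subsingleton.elim _ _]
    exact one_mem _
  unfold QuadGrp.sorth QuadGrp.SO
  rw [if_pos (by rw [Module.finrank_eq_card_basis (EB A), Fintype.card_fin]; exact he)]
  let q := QuadGrp.baseChangeForm A Q
  refine ⟨mul_mem (s := QuadGrp.O _) (form_refl Q hc) (form_refl Q hd), fun z hz => ?_⟩
  have hsq : ∀ {v : A ⊗[R] (Fin n → R)} {c : A}, c * q v = 1 → ι q v * (c • ι q v) = 1 ∧ (c • ι q v) * ι q v = 1 :=
    fun {v c} h => by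
      rw [mul_smul_comm, smul_mul_assoc, ι_sq_scalar, Algebra.smul_def, ← map_mul, h, map_one]
      exact ⟨rfl, rfl⟩
  have hconj : ∀ {v : A ⊗[R] (Fin n → R)} {c : A} (h : c * q v = 1) (x : A ⊗[R] (Fin n → R)),
      ι q v * ι q x * (c • ι q v) = -ι q (refl Q h x) := fun {v c} h x => by
    rw [refl_apply, map_sub, map_smul, mul_smul_comm, ι_mul_ι_comm, sub_mul, ← Algebra.smul_def,
      mul_assoc, ι_sq_scalar, ← Algebra.commutes, ← Algebra.smul_def, smul_sub, smul_smul, smul_smul,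
      h, one_smul]
    abel
  let U : (CliffordAlgebra q)ˣ :=
    ⟨ι q v * ι q w, (d • ι q w) * (c • ι q v),
      by rw [mul_assoc, ← mul_assoc (ι q w), (hsq hd).1, one_mul, (hsq hc).1],
      by rw [mul_assoc, ← mul_assoc (c • ι q v), (hsq hc).2, one_mul, (hsq hd).2]⟩
  let conjU : CliffordAlgebra q →ₐ[A] CliffordAlgebra q :=
    AlgHom.ofLinearMap ((LinearMap.mulRight A (↑U⁻¹ : CliffordAlgebra q)).comp (LinearMap.mulLeft A (U : CliffordAlgebra q)))
      (by simp) (fun a b => by
        simp only [LinearMap.comp_apply, LinearMap.mulLeft_apply, LinearMap.mulRight_apply]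
        rw [mul_assoc (↑U * a), ← mul_assoc (↑U⁻¹ : CliffordAlgebra q), ← mul_assoc (↑U⁻¹ : CliffordAlgebra q),
          Units.inv_mul, one_mul]
        simp only [mul_assoc])
  have hmap : CliffordAlgebra.map (QuadGrp.isometryOfMem q (refl Q hc * refl Q hd)
      (mul_mem (s := QuadGrp.O _) (form_refl Q hc) (form_refl Q hd))) = conjU := by
    refine CliffordAlgebra.hom_ext (LinearMap.ext fun x => ?_)
    rw [LinearMap.comp_apply, LinearMap.comp_apply, AlgHom.toLinearMap_apply, AlgHom.toLinearMap_apply,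
      CliffordAlgebra.map_apply_ι]
    change ι q (refl Q hc (refl Q hd x)) = ι q v * ι q w * ι q x * ((d • ι q w) * (c • ι q v))
    calc ι q (refl Q hc (refl Q hd x)) = -(ι q v * ι q (refl Q hd x) * (c • ι q v)) := by
          rw [hconj hc, neg_neg]
      _ = ι q v * (ι q w * ι q x * (d • ι q w)) * (c • ι q v) := by
          rw [hconj hd, mul_neg, neg_mul]
      _ = _ := by simp only [mul_assoc]
  rw [hmap]
  have hU : (U : CliffordAlgebra q) ∈ CliffordAlgebra.even q := ι_mul_ι_mem_evenOdd_zero q v w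
  have hcomm := congrArg Subtype.val ((Subalgebra.mem_center_iff.1 hz) ⟨_, hU⟩)
  change (U : CliffordAlgebra q) * (z : CliffordAlgebra q) * ↑U⁻¹ = z
  rw [show (U : CliffordAlgebra q) * (z : CliffordAlgebra q) = z * U from hcomm, mul_assoc, Units.mul_inv, mul_one]

end Groth.Agent.QuadLib
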