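import Groth.Agent.QuadLib.OrthSmooth
import Groth.Agent.QuadLib.CharTwoDet
import Mathlib.RingTheory.TensorProduct.Quotient
import Mathlib.RingTheory.Smooth.Flat
import Mathlib.RingTheory.Flat.TorsionFree
import Mathlib.AlgebraicGeometry.Morphisms.Flat

/-!
# The naive special orthogonal group of an even form is reduced and not flat
-/

noncomputable section

universe u

open TensorProduct Matrix CategoryTheory AlgebraicGeometry

namespace Groth.Agent.QuadLib

variable {R : Type u} [CommRing R] [IsDomain R] {n : ℕ} (Q : QuadraticForm R (Fin n → R))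

/-- The closed immersion of the naive special orthogonal group. -/
def toSO' : HR Q false →ₐ[R] HR Q true :=
  (hrEquiv Q false (HR Q true)).symm ⟨univG Q true, (cond_univG Q true).1, fun h => by simp at h⟩

lemma univG_toSO' : (univG Q false).map (toSO' Q) = univG Q true :=
  congrArg Subtype.val ((hrEquiv Q false (HR Q true)).apply_symm_apply _)

lemma toSO'_surjective : Function.Surjective (toSO' Q) := by
  have h : (toSO' Q).comp (Ideal.Quotient.mkₐ R (Ideal.span (Set.range (eqs Q false)))) =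
      Ideal.Quotient.mkₐ R (Ideal.span (Set.range (eqs Q true))) := by
    refine MvPolynomial.algHom_ext fun p => ?_
    simpa [univG, Gen] using congrFun (congrFun (univG_toSO' Q) p.1) p.2
  intro x
  obtain ⟨y, rfl⟩ := Ideal.Quotient.mkₐ_surjective R _ x
  exact ⟨Ideal.Quotient.mkₐ R _ y, AlgHom.congr_fun h y⟩

lemma cond_true_mod {A : Type u} [CommRing A] [Algebra R A] {G : Matrix (Fin n) (Fin n) A}
    (hG : Cond Q false G) :
    Cond Q true (G.map (Ideal.Quotient.mkₐ R (Ideal.span {G.det - 1}))) := by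
  refine ⟨(hG.map Q _).1, fun _ => ?_⟩
  refine (RingHom.map_det (Ideal.Quotient.mkₐ R (Ideal.span {G.det - 1})).toRingHom G).symm.trans ?_
  refine sub_eq_zero.1 ?_
  rw [← map_one (Ideal.Quotient.mkₐ R (Ideal.span {G.det - 1})).toRingHom, ← map_sub]
  exact Ideal.Quotient.eq_zero_iff_mem.2 (Ideal.subset_span rfl)

lemma toSO'_eq_zero_iff (a : HR Q false) :
    toSO' Q a = 0 ↔ a ∈ Ideal.span {(univG Q false).det - 1} := by
  constructor
  · intro ha
    let φ := (hrEquiv Q true (HR Q false ⧸ Ideal.span {(univG Q false).det - 1})).symm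
      ⟨_, cond_true_mod Q (cond_univG Q false)⟩
    have hφ : φ.comp (toSO' Q) = Ideal.Quotient.mkₐ R (Ideal.span {(univG Q false).det - 1}) := by
      refine (hrEquiv Q false (HR Q false ⧸ Ideal.span {(univG Q false).det - 1})).injective (Subtype.ext ?_)
      rw [hrEquiv_comp]
      refine (congrArg (fun M : Matrix (Fin n) (Fin n) (HR Q true) => M.map φ) (univG_toSO' Q)).trans ?_
      exact congrArg Subtype.val ((hrEquiv Q true _).apply_symm_apply _)
    have h := AlgHom.congr_fun hφ a
    rw [AlgHom.comp_apply, ha, map_zero] at h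
    exact Ideal.Quotient.eq_zero_iff_mem.1 h.symm
  · intro ha
    obtain ⟨y, rfl⟩ := Ideal.mem_span_singleton'.1 ha
    rw [map_mul, map_sub, map_one, AlgHom.map_det, AlgHom.mapMatrix_apply, univG_toSO',
      (cond_univG Q true).2 rfl, sub_self, mul_zero]

variable {Q} (hQ : Nondeg' Q) (he : Even n)

include hQ he

lemma smooth_HR_false : Algebra.Smooth R (HR Q false) := by
  haveI := formallySmooth_HR Q false hQ (Or.inl ⟨Or.inl he, fun h => by simp at h⟩)
  haveI : Algebra.FinitePresentation R (HR Q false) :=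
    Algebra.FinitePresentation.quotient (Submodule.fg_span (Set.finite_range _))
  exact {}

lemma det_sub_one_mem {A : Type u} [CommRing A] [Algebra R A] {G : Matrix (Fin n) (Fin n) A}
    (hG : Cond Q false G) : G.det - 1 ∈ Ideal.span {(2 : A)} := by
  have h2 : (2 : A ⧸ Ideal.span {(2 : A)}) = 0 := by
    rw [← map_ofNat (Ideal.Quotient.mk (Ideal.span {(2 : A)})) 2]
    exact Ideal.Quotient.eq_zero_iff_mem.2 (Ideal.subset_span rfl)
  have h : (G.map (Ideal.Quotient.mkₐ R (Ideal.span {(2 : A)}))).det = 1 := by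
    rcases subsingleton_or_nontrivial (A ⧸ Ideal.span {(2 : A)}) with hS | hN
    · exact Subsingleton.elim _ _
    · haveI : CharP (A ⧸ Ideal.span {(2 : A)}) 2 :=
        CharTwo.of_one_ne_zero_of_two_eq_zero (one_ne_zero' (A ⧸ Ideal.span {(2 : A)})) h2
      exact det_eq_one_of_charTwo he _ _ (isUnit_polar_det hQ (Or.inl he)) (hG.map Q _).1
  refine Ideal.Quotient.eq_zero_iff_mem.1 ?_
  rw [map_sub, map_one, sub_eq_zero]
  exact ((RingHom.map_det (Ideal.Quotient.mkₐ R (Ideal.span {(2 : A)})).toRingHom G).trans h)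

lemma exists_det_eq : ∃ a : HR Q false, (univG Q false).det - 1 = a * 2 :=
  (Ideal.mem_span_singleton'.1 (det_sub_one_mem hQ he (cond_univG Q false))).imp fun a ha => ha.symm

lemma two_mul_eq_zero (h2 : (2 : R) ≠ 0) {x : HR Q false} (hx : 2 * x = 0) : x = 0 := by
  haveI := smooth_HR_false hQ he
  have hr : IsSMulRegular (HR Q false) (2 : R) :=
    Module.Flat.isSMulRegular_of_nonZeroDivisors (mem_nonZeroDivisors_of_ne_zero h2)
  refine hr ?_
  change (2 : R) • x = (2 : R) • (0 : HR Q false)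
  rw [smul_zero]
  exact (Algebra.smul_def (2 : R) x).trans (by rw [map_ofNat, hx])

lemma exists_idempotent (h2 : (2 : R) ≠ 0) :
    ∃ e : HR Q false, IsIdempotentElem e ∧ (univG Q false).det - 1 = -(2 * e) := by
  obtain ⟨a, ha⟩ := exists_det_eq hQ he
  refine ⟨-a, ?_, by linear_combination ha⟩
  have hsq := det_sq_eq_one hQ (cond_univG Q false).1
  have h4 : 2 * (2 * (a + a * a)) = 0 := by
    linear_combination hsq - ((univG Q false).det + 1 + 2 * a) * ha
  have h := two_mul_eq_zero hQ he h2 (two_mul_eq_zero hQ he h2 h4)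
  change -a * -a = -a
  linear_combination h

lemma isReduced_HR_true (h2 : (2 : R) ≠ 0) [IsReduced (R ⧸ Ideal.span {(2 : R)})] :
    IsReduced (HR Q true) := by
  haveI := smooth_HR_false hQ he
  haveI : IsReduced (HR Q false) := SmoothReduced.isReduced_of_smooth R _
  haveI : IsReduced (HR Q false ⧸ (Ideal.span {(2 : R)}).map (algebraMap R (HR Q false))) := by
    haveI h' : IsReduced ((R ⧸ Ideal.span {(2 : R)}) ⊗[R] HR Q false) := by
      have := SmoothReduced.isReduced_of_smooth (R ⧸ Ideal.span {(2 : R)})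
        ((R ⧸ Ideal.span {(2 : R)}) ⊗[R] HR Q false)
      exact ⟨fun x ⟨k, hk⟩ => this.eq_zero x ⟨k, hk⟩⟩
    exact isReduced_of_injective (Algebra.TensorProduct.quotIdealMapEquivQuotTensor (HR Q false)
      (Ideal.span {(2 : R)})) (AlgEquiv.injective _)
  obtain ⟨e, hee, hde⟩ := exists_idempotent hQ he h2
  refine ⟨fun x ⟨k, hk⟩ => ?_⟩
  obtain ⟨x, rfl⟩ := toSO'_surjective Q x
  rw [← map_pow, toSO'_eq_zero_iff, hde, Ideal.mem_span_singleton'] at hk
  rw [toSO'_eq_zero_iff, hde, Ideal.mem_span_singleton']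
  obtain ⟨y, hy⟩ := hk
  obtain ⟨z, hz⟩ : ∃ z, z * 2 = x := by
    rw [← Ideal.mem_span_singleton', ← map_ofNat (algebraMap R (HR Q false)) 2, ← Set.image_singleton,
      ← Ideal.map_span, ← Ideal.Quotient.eq_zero_iff_mem]
    refine IsNilpotent.eq_zero ⟨k, ?_⟩
    rw [← map_pow, Ideal.Quotient.eq_zero_iff_mem, ← hy, Ideal.map_span, Set.image_singleton, map_ofNat,
      Ideal.mem_span_singleton']
    exact ⟨-(y * e), by ring⟩
  have hx : (1 - e) * x = 0 := by
    refine IsNilpotent.eq_zero ⟨k + 1, ?_⟩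
    rw [mul_pow, hee.one_sub.pow_succ_eq, pow_succ, ← hy]
    linear_combination (2 * x * y) * hee.eq
  exact ⟨-z, by linear_combination e * hz - hx⟩

lemma not_flat_HR_true (h2 : (2 : R) ≠ 0) (h2u : ¬ IsUnit (2 : R))
    {G₀ : Matrix (Fin n) (Fin n) R} (hG₀ : Cond Q false G₀) (hdet : G₀.det = -1) :
    ¬ Module.Flat R (HR Q true) := by
  intro hflat
  obtain ⟨e, -, hde⟩ := exists_idempotent hQ he h2
  have hr : IsSMulRegular (HR Q true) (2 : R) :=
    Module.Flat.isSMulRegular_of_nonZeroDivisors (mem_nonZeroDivisors_of_ne_zero h2)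
  have h0 : toSO' Q (2 * e) = 0 := by
    rw [toSO'_eq_zero_iff, hde, Ideal.mem_span_singleton']
    exact ⟨-1, by ring⟩
  rw [map_mul, map_ofNat] at h0
  have he0 : toSO' Q e = 0 := by
    refine hr ?_
    change (2 : R) • toSO' Q e = (2 : R) • (0 : HR Q true)
    rw [smul_zero]
    exact (Algebra.smul_def (2 : R) (toSO' Q e)).trans
      (show algebraMap R (HR Q true) (2 : R) * toSO' Q e = 0 by rw [map_ofNat]; exact h0)
  rw [toSO'_eq_zero_iff, hde, Ideal.mem_span_singleton'] at he0
  obtain ⟨y, hy⟩ := he0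
  let ψ := (hrEquiv Q false R).symm ⟨G₀, hG₀⟩
  have hψd : ψ (univG Q false).det = -1 := by
    rw [AlgHom.map_det, AlgHom.mapMatrix_apply, ← hdet]
    exact congrArg (fun M : {G : Matrix (Fin n) (Fin n) R // Cond Q false G} => M.1.det)
      ((hrEquiv Q false R).apply_symm_apply _)
  have h1 := congrArg ψ hde
  rw [map_sub, map_one, hψd, map_neg, map_mul, map_ofNat] at h1
  have hψe : ψ e = 1 := mul_left_cancel₀ h2 (by linear_combination h1)
  have h3 := congrArg ψ hy
  rw [map_mul, map_neg, map_mul, map_ofNat, hψe] at h3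
  exact h2u (isUnit_iff_exists_inv.2 ⟨-ψ y, by linear_combination h3⟩)

variable {G : Over (Spec (CommRingCat.of R))} [GrpObj G] (D : QuadGrp.SOrth'Rep Q G)

include D

theorem isReduced_left_and_not_flat_of_rep (h2 : (2 : R) ≠ 0) (h2u : ¬ IsUnit (2 : R))
    [IsReduced (R ⧸ Ideal.span {(2 : R)})]
    {G₀ : Matrix (Fin n) (Fin n) R} (hG₀ : Cond Q false G₀) (hdet : G₀.det = -1) :
    AlgebraicGeometry.IsReduced G.left ∧ ¬ AlgebraicGeometry.Flat G.hom := by
  haveI := isIso_univPt (repEquiv Q true D hQ) (repEquiv_nat Q true D hQ)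
  haveI := isReduced_HR_true hQ he h2
  let f := (univPt (repEquiv Q true D hQ)).left
  haveI : AlgebraicGeometry.IsReduced (QuadGrp.specOver R (HR Q true)).left :=
    inferInstanceAs (AlgebraicGeometry.IsReduced (Spec (CommRingCat.of (HR Q true))))
  refine ⟨isReduced_of_isOpenImmersion (inv f), fun h => not_flat_HR_true hQ he h2 h2u hG₀ hdet ?_⟩
  rw [← MorphismProperty.cancel_left_of_respectsIso (P := @AlgebraicGeometry.Flat) f,
    Over.w (univPt (repEquiv Q true D hQ))] at h
  exact RingHom.flat_algebraMap_iff.1 ((HasRingHomProperty.Spec_iff (P := @AlgebraicGeometry.Flat)).1 h)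

end Groth.Agent.QuadLib
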