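import Groth.Prelude.Def_QuadGrp2
import Mathlib.AlgebraicGeometry.Morphisms.Smooth

/-!
# A scheme with corepresented points is affine
-/

noncomputable section

universe u

open CategoryTheory Limits AlgebraicGeometry

namespace Groth.Agent.QuadLib

variable {R : Type u} [CommRing R]

lemma specOverMap_comp {A B C : Type u} [CommRing A] [Algebra R A] [CommRing B] [Algebra R B]
    [CommRing C] [Algebra R C] (φ : A →ₐ[R] B) (ψ : B →ₐ[R] C) :
    QuadGrp.specOverMap R (ψ.comp φ) = QuadGrp.specOverMap R ψ ≫ QuadGrp.specOverMap R φ := by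
  refine Over.OverMorphism.ext ?_
  change Spec.map (CommRingCat.ofHom (ψ.comp φ).toRingHom) =
    Spec.map (CommRingCat.ofHom ψ.toRingHom) ≫ Spec.map (CommRingCat.ofHom φ.toRingHom)
  rw [← Spec.map_comp, ← CommRingCat.ofHom_comp]
  rfl

/-- An affine point is induced by an algebra structure. -/
lemma exists_specOverMap_eq {H A : Type u} [CommRing H] [Algebra R H] [CommRing A] [Algebra R A]
    (a : Spec (CommRingCat.of A) ⟶ Spec (CommRingCat.of H))
    (ha : a ≫ (QuadGrp.specOver R H).hom = (QuadGrp.specOver R A).hom) :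
    ∃ ψ : H →ₐ[R] A, (QuadGrp.specOverMap R ψ).left = a := by
  have hh : (Spec.preimage a).hom.comp (algebraMap R H) = algebraMap R A := by
    have h1 : Spec.map (CommRingCat.ofHom (algebraMap R H) ≫ Spec.preimage a) =
        Spec.map (CommRingCat.ofHom (algebraMap R A)) := by
      rw [Spec.map_comp, Spec.map_preimage]
      exact ha
    exact congrArg CommRingCat.Hom.hom (Spec.map_injective h1)
  exact ⟨⟨(Spec.preimage a).hom, fun r => RingHom.congr_fun hh r⟩, Spec.map_preimage a⟩

variable {G : Over (Spec (CommRingCat.of R))} {H : Type u} [CommRing H] [Algebra R H]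
  (F : ∀ (A : Type u) [CommRing A] [Algebra R A], (QuadGrp.specOver R A ⟶ G) ≃ (H →ₐ[R] A))
  (hF : ∀ (A B : Type u) [CommRing A] [Algebra R A] [CommRing B] [Algebra R B] (φ : A →ₐ[R] B)
    (y : QuadGrp.specOver R A ⟶ G), F B (QuadGrp.specOverMap R φ ≫ y) = φ.comp (F A y))

/-- The universal point. -/
def univPt : QuadGrp.specOver R H ⟶ G := (F H).symm (AlgHom.id R H)

include hF in
lemma F_univPt {A : Type u} [CommRing A] [Algebra R A] (φ : H →ₐ[R] A) :
    F A (QuadGrp.specOverMap R φ ≫ univPt F) = φ := by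
  rw [hF, univPt, Equiv.apply_symm_apply, AlgHom.comp_id]

include hF in
lemma eq_specOverMap_univPt {A : Type u} [CommRing A] [Algebra R A] (y : QuadGrp.specOver R A ⟶ G) :
    y = QuadGrp.specOverMap R (F A y) ≫ univPt F :=
  (F A).injective (F_univPt F hF (F A y)).symm

include hF in
theorem isIso_univPt : IsIso (univPt F).left := by
  refine (IsZariskiLocalAtTarget.iff_of_openCover (P := MorphismProperty.isomorphisms Scheme)
    G.left.affineCover).2 fun i => ?_
  change IsIso (pullback.snd (univPt F).left (G.left.affineCover.f i))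
  obtain ⟨A, hA⟩ : ∃ A : CommRingCat.{u}, G.left.affineCover.X i = Spec A := ⟨_, rfl⟩
  generalize G.left.affineCover.f i = j
  revert j
  rw [hA]
  intro j
  letI : Algebra R A := (Spec.preimage (j ≫ G.hom)).hom.toAlgebra
  have hj : j ≫ G.hom = (QuadGrp.specOver R A).hom := (Spec.map_preimage (j ≫ G.hom)).symm
  let y : QuadGrp.specOver R A ⟶ G := Over.homMk j hj
  let ψ := F A y
  have hy : (QuadGrp.specOverMap R ψ).left ≫ (univPt F).left = j :=
    (congrArg CommaMorphism.left (eq_specOverMap_univPt F hF y)).symm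
  let s : Spec A ⟶ pullback (univPt F).left j :=
    pullback.lift (QuadGrp.specOverMap R ψ).left (𝟙 (Spec A)) (hy.trans (Category.id_comp j).symm)
  have hs : s ≫ pullback.snd _ _ = 𝟙 _ := pullback.lift_snd _ _ _
  refine ⟨s, ?_, hs⟩
  refine pullback.hom_ext ?_ (by rw [Category.assoc, hs, Category.comp_id, Category.id_comp])
  rw [Category.id_comp, Category.assoc, pullback.lift_fst]
  refine Scheme.Cover.hom_ext (pullback (univPt F).left j).affineCover _ _ fun k => ?_
  obtain ⟨B, hB⟩ : ∃ B : CommRingCat.{u}, (pullback (univPt F).left j).affineCover.X k = Spec B := ⟨_, rfl⟩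
  generalize (pullback (univPt F).left j).affineCover.f k = ι
  revert ι
  rw [hB]
  intro ι
  let b := ι ≫ pullback.snd (univPt F).left j
  let a := ι ≫ pullback.fst (univPt F).left j
  letI : Algebra R B := (Spec.preimage (b ≫ j ≫ G.hom)).hom.toAlgebra
  have hb : b ≫ (QuadGrp.specOver R A).hom = (QuadGrp.specOver R B).hom := by
    rw [← hj]
    exact (Spec.map_preimage (b ≫ j ≫ G.hom)).symm
  have hcond : a ≫ (univPt F).left = b ≫ j := by
    simp only [a, b, Category.assoc, pullback.condition]
  have ha : a ≫ (QuadGrp.specOver R H).hom = (QuadGrp.specOver R B).hom :=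
    (congrArg (a ≫ ·) (Over.w (univPt F))).symm.trans ((Category.assoc _ _ _).symm.trans
      ((congrArg (· ≫ G.hom) hcond).trans ((Category.assoc _ _ _).trans
        ((congrArg (b ≫ ·) hj).trans hb))))
  obtain ⟨φa, hφa⟩ := exists_specOverMap_eq (R := R) (H := H) (A := B) a ha
  obtain ⟨φb, hφb⟩ := exists_specOverMap_eq (R := R) (H := A) (A := B) b hb
  have heq : φa = φb.comp ψ := by
    rw [← F_univPt F hF φa, ← F_univPt F hF (φb.comp ψ)]
    refine congrArg (F B) (Over.OverMorphism.ext ?_)
    rw [specOverMap_comp, Category.assoc]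
    refine ((congrArg (· ≫ (univPt F).left) hφa).trans hcond).trans ?_
    exact ((congrArg (b ≫ ·) hy.symm).trans (congrArg (· ≫ _) hφb.symm))
  change ι ≫ pullback.snd (univPt F).left j ≫ (QuadGrp.specOverMap R ψ).left = a
  rw [← hφa, heq, specOverMap_comp]
  exact (Category.assoc _ _ _).symm.trans (congrArg (· ≫ (QuadGrp.specOverMap R ψ).left) hφb.symm)

include hF in
theorem smooth_iff : Smooth G.hom ↔ Algebra.Smooth R H := by
  haveI := isIso_univPt F hF
  rw [← RingHom.smooth_algebraMap, ← MorphismProperty.cancel_left_of_respectsIso (P := @Smooth) (univPt F).left,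
    Over.w (univPt F)]
  exact HasRingHomProperty.Spec_iff (P := @Smooth)

end Groth.Agent.QuadLib
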