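import Groth.Prelude.Def_QuadGrp2
import Groth.Agent.QuadLib.RepAffine
import Groth.Agent.QuadLib.Minors
import Groth.Agent.QuadLib.MatLiftGlobal
import Mathlib.RingTheory.Smooth.Basic
import Mathlib.RingTheory.FinitePresentation

/-!
# Smoothness of orthogonal group schemes
-/

noncomputable section

universe u

open TensorProduct Matrix CategoryTheory AlgebraicGeometry
open scoped MonObj

namespace Groth.Agent.QuadLib

variable {R : Type u} [CommRing R] {n : ℕ} (Q : QuadraticForm R (Fin n → R))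

/-- The lift matrix over an algebra. -/
abbrev βA (A : Type u) [CommRing A] [Algebra R A] : Matrix (Fin n) (Fin n) A :=
  (β₀ Q).map (algebraMap R A)

/-- The equations of the orthogonal group (with determinant one if `b`). -/
def Cond (b : Bool) {A : Type u} [CommRing A] [Algebra R A] (G : Matrix (Fin n) (Fin n) A) : Prop :=
  coeffsOf (Gᵀ * βA Q A * G) = coeffsOf (βA Q A) ∧ (b = true → G.det = 1)

lemma map_βA {A B : Type u} [CommRing A] [Algebra R A] [CommRing B] [Algebra R B] (φ : A →ₐ[R] B) :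
    (βA Q A).map φ = βA Q B := by
  ext i j
  simp

lemma map_congr_form {A B : Type u} [CommRing A] [Algebra R A] [CommRing B] [Algebra R B]
    (φ : A →ₐ[R] B) (G : Matrix (Fin n) (Fin n) A) :
    (Gᵀ * βA Q A * G).map φ = (G.map φ)ᵀ * βA Q B * G.map φ := by
  rw [Matrix.map_mul, Matrix.map_mul, map_βA, Matrix.transpose_map]

lemma Cond.map {b : Bool} {A B : Type u} [CommRing A] [Algebra R A] [CommRing B] [Algebra R B]
    (φ : A →ₐ[R] B) {G : Matrix (Fin n) (Fin n) A} (hG : Cond Q b G) : Cond Q b (G.map φ) := by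
  refine ⟨?_, fun hb => ?_⟩
  · rw [← map_congr_form, ← map_βA Q φ]
    exact (coeffsOf_map φ.toRingHom _).trans ((congrArg (φ.toRingHom ∘ ·) hG.1).trans
      (coeffsOf_map φ.toRingHom _).symm)
  · rw [← map_one φ, ← hG.2 hb]
    exact (RingHom.map_det φ.toRingHom G).symm

section Form

variable {A : Type u} [CommRing A]

lemma dot_alt {Z : Matrix (Fin n) (Fin n) A} (hZ : coeffsOf Z = 0) (x : Fin n → A) : x ⬝ᵥ (Z *ᵥ x) = 0 := by
  rcases Nat.eq_zero_or_pos n with rfl | hn
  · simp [dotProduct]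
  let P : Matrix (Fin n) (Fin n) A := Matrix.of fun k _ => x k
  have h := congrFun (coeffsOf_congr_alt hZ P) (Sym2.mk ⟨0, hn⟩ ⟨0, hn⟩)
  rw [coeffsOf_mk, if_pos rfl, Pi.zero_apply, Matrix.mul_assoc, Matrix.mul_apply] at h
  exact h

lemma coeffsOf_eq_iff (β γ : Matrix (Fin n) (Fin n) A) :
    coeffsOf β = coeffsOf γ ↔ ∀ x : Fin n → A, x ⬝ᵥ (β *ᵥ x) = x ⬝ᵥ (γ *ᵥ x) := by
  constructor
  · intro h x
    have h0 : coeffsOf (β - γ) = 0 := by
      rw [sub_eq_add_neg, coeffsOf_add, coeffsOf_neg, h, add_neg_cancel]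
    have := dot_alt h0 x
    rwa [Matrix.sub_mulVec, dotProduct_sub, sub_eq_zero] at this
  · intro h
    funext z
    induction z using Sym2.inductionOn with
    | hf i j =>
      have hii : ∀ k, β k k = γ k k := fun k => by
        simpa [Matrix.mulVec_single, dotProduct, Pi.single_apply] using h (Pi.single k 1)
      rw [coeffsOf_mk, coeffsOf_mk]
      by_cases hij : i = j
      · rw [if_pos hij, if_pos hij, hii]
      · rw [if_neg hij, if_neg hij]
        have h2 := h (Pi.single i 1 + Pi.single j 1)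
        simp only [Matrix.mulVec_add, add_dotProduct, dotProduct_add] at h2
        simp [Matrix.mulVec_single, dotProduct, Pi.single_apply, hii] at h2
        linear_combination h2

end Form

variable (b : Bool)

/-- The subgroup functor. -/
abbrev SA (A : Type u) [CommRing A] [Algebra R A] :
    Subgroup ((A ⊗[R] (Fin n → R)) ≃ₗ[A] (A ⊗[R] (Fin n → R))) :=
  bif b then QuadGrp.sorth' Q A else QuadGrp.orth Q A

variable {A : Type u} [CommRing A] [Algebra R A]

/-- The matrix of an automorphism. -/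
abbrev matOf (h : (A ⊗[R] (Fin n → R)) ≃ₗ[A] (A ⊗[R] (Fin n → R))) : Matrix (Fin n) (Fin n) A :=
  LinearMap.toMatrix (EB A) (EB A) h.toLinearMap

lemma form_coord (y : A ⊗[R] (Fin n → R)) :
    QuadGrp.baseChangeForm A Q y =
      ((EB A).repr y : Fin n → A) ⬝ᵥ (βA Q A *ᵥ ((EB A).repr y : Fin n → A)) := by
  conv_lhs => rw [show y = vec A (fun i => (EB A).repr y i) from ((EB A).sum_repr y).symm]
  rw [form_vec]
  simp only [qv, dotProduct, Matrix.mulVec, Matrix.map_apply, Finset.mul_sum]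
  exact Finset.sum_congr rfl fun i _ => Finset.sum_congr rfl fun j _ => by ring

lemma mem_O_iff_matOf (h : (A ⊗[R] (Fin n → R)) ≃ₗ[A] (A ⊗[R] (Fin n → R))) :
    h ∈ QuadGrp.orth Q A ↔ coeffsOf ((matOf h)ᵀ * βA Q A * matOf h) = coeffsOf (βA Q A) := by
  rw [mem_O_form_iff, coeffsOf_eq_iff]
  have key : ∀ y : A ⊗[R] (Fin n → R),
      ((EB A).repr y : Fin n → A) ⬝ᵥ (((matOf h)ᵀ * βA Q A * matOf h) *ᵥ ((EB A).repr y : Fin n → A)) =
        QuadGrp.baseChangeForm A Q (h y) := by
    intro y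
    have hm : ((EB A).repr (h y) : Fin n → A) = matOf h *ᵥ ((EB A).repr y : Fin n → A) :=
      (LinearMap.toMatrix_mulVec_repr (EB A) (EB A) h.toLinearMap y).symm
    rw [form_coord, hm, ← Matrix.mulVec_mulVec, ← Matrix.mulVec_mulVec, Matrix.dotProduct_mulVec,
      Matrix.vecMul_transpose]
  constructor
  · intro hh x
    have e : ((EB (R := R) A).repr (vec A x) : Fin n → A) = x := funext (coord_vec A x)
    have k1 := key (vec A x)
    rw [e] at k1
    rw [k1, hh (vec A x), form_coord, e]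
  · intro hh y
    rw [← key, hh, form_coord]

lemma mem_SA_iff (h : (A ⊗[R] (Fin n → R)) ≃ₗ[A] (A ⊗[R] (Fin n → R))) :
    h ∈ SA Q b A ↔ Cond Q b (matOf h) := by
  cases b with
  | false => exact (mem_O_iff_matOf Q h).trans ⟨fun h' => ⟨h', fun h'' => by simp at h''⟩, fun h' => h'.1⟩
  | true =>
    refine Iff.trans ?_ (and_congr (mem_O_iff_matOf Q h)
      ⟨fun (h' : (matOf h).det = 1) _ => h', fun h' => h' rfl⟩)
    change (h ∈ QuadGrp.orth Q A ∧ h ∈ (LinearEquiv.det (R := A) (M := A ⊗[R] (Fin n → R))).ker) ↔ _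
    refine and_congr Iff.rfl ?_
    rw [MonoidHom.mem_ker, ← Units.val_eq_one, LinearEquiv.coe_det, ← LinearMap.det_toMatrix (EB (R := R) A)]

/-- Non-degeneracy used below. -/
structure Nondeg' (Q : QuadraticForm R (Fin n → R)) : Prop where
  even : Even n → IsUnit (B₀ Q).det
  odd : Odd n → IsUnit (hd (β₀ Q))

lemma nondeg'_of_isNondeg (hQ : QuadGrp.IsNondeg (Pi.basisFun R (Fin n)) (LinearEquiv.refl R R) Q) :
    Nondeg' Q :=
  ⟨fun he => isUnit_det_of_isRegular Q (hQ.1 he), fun ho => by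
    have := hQ.2 ho
    rwa [QuadGrp.IsSemiregular, halfDisc_eq] at this⟩

variable {Q b}

lemma isUnit_polar_det (hQ : Nondeg' Q) (h : Even n ∨ IsUnit (2 : R)) :
    IsUnit (βA Q A + (βA Q A)ᵀ).det := by
  have h1 : IsUnit (B₀ Q).det := by
    rcases Nat.even_or_odd n with he | ho
    · exact hQ.even he
    · rcases h with he | h2
      · exact absurd he (Nat.not_even_iff_odd.2 ho)
      · rw [← two_mul_hd ho]; exact h2.mul (hQ.odd ho)
  have h2 := h1.map (algebraMap R A)
  rwa [RingHom.map_det, RingHom.mapMatrix_apply, Matrix.map_add _ (map_add _), Matrix.transpose_map] at h2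

lemma det_sq_eq_one (hQ : Nondeg' Q) {G : Matrix (Fin n) (Fin n) A}
    (hG : coeffsOf (Gᵀ * βA Q A * G) = coeffsOf (βA Q A)) : G.det * G.det = 1 := by
  rcases Nat.even_or_odd n with he | ho
  · have hu := isUnit_polar_det (A := A) hQ (Or.inl he)
    have h1 : Gᵀ * (βA Q A + (βA Q A)ᵀ) * G = βA Q A + (βA Q A)ᵀ := by
      refine Eq.trans ?_ (polar_of_coeffsOf_eq hG)
      rw [Matrix.transpose_mul, Matrix.transpose_mul, Matrix.transpose_transpose,
        Matrix.mul_add, Matrix.add_mul, Matrix.mul_assoc Gᵀ (βA Q A)ᵀ G]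
    have h2 := congrArg Matrix.det h1
    rw [Matrix.det_mul, Matrix.det_mul, Matrix.det_transpose] at h2
    exact hu.mul_right_cancel (by rw [one_mul]; linear_combination h2)
  · have hu : IsUnit (hd (βA Q A)) := by rw [← hd_map]; exact (hQ.odd ho).map _
    have h2 := hd_congr ho (βA Q A) G
    rw [hd_of_coeffsOf_eq hG] at h2
    exact hu.mul_right_cancel (by rw [one_mul]; linear_combination -h2)

lemma isUnit_det_of_cond (hQ : Nondeg' Q) {G : Matrix (Fin n) (Fin n) A} (hG : Cond Q b G) :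
    IsUnit G.det :=
  isUnit_iff_exists_inv.2 ⟨G.det, det_sq_eq_one hQ hG.1⟩

variable (Q b A)

/-- Points as matrices. -/
def saEquiv (hQ : Nondeg' Q) : ↥(SA Q b A) ≃ {G : Matrix (Fin n) (Fin n) A // Cond Q b G} :=
  Equiv.ofBijective (fun h => ⟨matOf h.1, (mem_SA_iff Q b h.1).1 h.2⟩)
    ⟨fun h k hk => by
      refine Subtype.ext (LinearEquiv.toLinearMap_injective ?_)
      exact (LinearMap.toMatrix (EB A) (EB A)).injective (congrArg Subtype.val hk),
    fun G => by
      let h := Matrix.toLinearEquiv (EB (R := R) A) G.1 (isUnit_det_of_cond hQ G.2)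
      have hh : matOf h = G.1 := LinearMap.toMatrix_toLin _ _ _
      exact ⟨⟨h, (mem_SA_iff Q b h).2 (hh ▸ G.2)⟩, Subtype.ext hh⟩⟩

lemma saEquiv_apply (hQ : Nondeg' Q) (h : ↥(SA Q b A)) : (saEquiv Q b A hQ h).1 = matOf h.1 := rfl

section Ring

variable (R n) in
/-- The polynomial ring of matrices. -/
abbrev PR : Type u := MvPolynomial (Fin n × Fin n) R

variable (R n) in
/-- The generic matrix. -/
def Gen : Matrix (Fin n) (Fin n) (PR R n) := Matrix.of fun i j => MvPolynomial.X (i, j)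

/-- The equations. -/
def eqs : Option (Sym2 (Fin n)) → PR R n
  | some z => coeffsOf ((Gen R n)ᵀ * βA Q (PR R n) * Gen R n) z - coeffsOf (βA Q (PR R n)) z
  | none => if b then (Gen R n).det - 1 else 0

/-- The coordinate ring. -/
abbrev HR : Type u := PR R n ⧸ Ideal.span (Set.range (eqs Q b))

lemma cond_iff_eqs (G : Matrix (Fin n) (Fin n) A) :
    Cond Q b G ↔ ∀ o, MvPolynomial.aeval (fun p : Fin n × Fin n => G p.1 p.2) (eqs Q b o) = 0 := by
  let φ : PR R n →ₐ[R] A := MvPolynomial.aeval (fun p : Fin n × Fin n => G p.1 p.2)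
  have hgen : (Gen R n).map φ = G := by ext i j; simp [Gen, φ]
  have h1 : ∀ z, φ (eqs Q b (some z)) = coeffsOf (Gᵀ * βA Q A * G) z - coeffsOf (βA Q A) z := fun z => by
    simp only [eqs, map_sub]
    have e1 := congrFun (coeffsOf_map φ.toRingHom ((Gen R n)ᵀ * βA Q (PR R n) * Gen R n)) z
    have e2 := congrFun (coeffsOf_map φ.toRingHom (βA Q (PR R n))) z
    rw [AlgHom.toRingHom_eq_coe, RingHom.coe_coe, map_congr_form, hgen, Function.comp_apply] at e1
    rw [AlgHom.toRingHom_eq_coe, RingHom.coe_coe, map_βA, Function.comp_apply] at e2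
    rw [← e1, ← e2]
  have h2 : φ (eqs Q b none) = if b then G.det - 1 else 0 := by
    simp only [eqs]
    split_ifs
    · rw [map_sub, map_one, AlgHom.map_det, AlgHom.mapMatrix_apply, hgen]
    · exact map_zero φ
  constructor
  · rintro ⟨hc, hd'⟩ (_ | z)
    · refine h2.trans ?_
      split_ifs with hb
      · rw [hd' hb, sub_self]
      · rfl
    · exact (h1 z).trans (by rw [hc, sub_self])
  · intro h
    refine ⟨funext fun z => sub_eq_zero.1 ((h1 z).symm.trans (h (some z))), fun hb => ?_⟩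
    have := h2.symm.trans (h none)
    rw [if_pos hb] at this
    exact sub_eq_zero.1 this

/-- The universal matrix. -/
def univG : Matrix (Fin n) (Fin n) (HR Q b) := (Gen R n).map (Ideal.Quotient.mkₐ R _)

lemma cond_univG : Cond Q b (univG Q b) := by
  refine (cond_iff_eqs Q b _ (univG Q b)).2 fun o => ?_
  have : MvPolynomial.aeval (fun p : Fin n × Fin n => univG Q b p.1 p.2) =
      Ideal.Quotient.mkₐ R (Ideal.span (Set.range (eqs Q b))) :=
    MvPolynomial.algHom_ext fun p => by simp [univG, Gen]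
  rw [this]
  exact Ideal.Quotient.eq_zero_iff_mem.2 (Ideal.subset_span ⟨o, rfl⟩)

/-- Points of the coordinate ring. -/
def hrEquiv : (HR Q b →ₐ[R] A) ≃ {G : Matrix (Fin n) (Fin n) A // Cond Q b G} where
  toFun ψ := ⟨(univG Q b).map ψ, (cond_univG Q b).map Q ψ⟩
  invFun G := Ideal.Quotient.liftₐ _ (MvPolynomial.aeval fun p : Fin n × Fin n => G.1 p.1 p.2) (by
    intro a ha
    refine Submodule.span_induction ?_ (map_zero _) (fun x y _ _ hx hy => by rw [map_add, hx, hy, add_zero])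
      (fun r x _ hx => by rw [smul_eq_mul, map_mul, hx, mul_zero]) ha
    rintro _ ⟨o, rfl⟩
    exact (cond_iff_eqs Q b A G.1).1 G.2 o)
  left_inv ψ := by
    refine Ideal.Quotient.algHom_ext _ (MvPolynomial.algHom_ext fun p => ?_)
    simp [univG, Gen]
  right_inv G := by
    refine Subtype.ext ?_
    ext i j
    simp [univG, Gen]

lemma hrEquiv_comp {B : Type u} [CommRing B] [Algebra R B] (φ : A →ₐ[R] B) (ψ : HR Q b →ₐ[R] A) :
    (hrEquiv Q b B (φ.comp ψ)).1 = (hrEquiv Q b A ψ).1.map φ := rfl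

variable {G : Over (Spec (CommRingCat.of R))} [GrpObj G]
  (D : QuadGrp.LinRep R (Fin n → R) (fun A _ _ => SA Q b A) G)

lemma repr_rTensor {B : Type u} [CommRing B] [Algebra R B] (φ : A →ₐ[R] B) (w : A ⊗[R] (Fin n → R)) (i : Fin n) :
    (EB B).repr (LinearMap.rTensor (Fin n → R) φ.toLinearMap w) i = φ ((EB A).repr w i) := by
  induction w using TensorProduct.induction_on with
  | zero => simp
  | tmul a v => simp [Algebra.TensorProduct.basis_repr_tmul]
  | add y z hy hz => simp only [map_add, Finsupp.add_apply, hy, hz]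

/-- The points of a representing scheme. -/
def repEquiv (hQ : Nondeg' Q) (B : Type u) [CommRing B] [Algebra R B] :
    (QuadGrp.specOver R B ⟶ G) ≃ (HR Q b →ₐ[R] B) :=
  ((D.pts B).toEquiv.trans (saEquiv Q b B hQ)).trans (hrEquiv Q b B).symm

include D in
lemma repEquiv_nat (hQ : Nondeg' Q) (B C : Type u) [CommRing B] [Algebra R B] [CommRing C] [Algebra R C]
    (φ : B →ₐ[R] C) (y : QuadGrp.specOver R B ⟶ G) :
    repEquiv Q b D hQ C (QuadGrp.specOverMap R φ ≫ y) = φ.comp (repEquiv Q b D hQ B y) := by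
  apply (hrEquiv Q b C).injective
  refine ((hrEquiv Q b C).apply_symm_apply _).trans (Subtype.ext ?_)
  rw [hrEquiv_comp]
  simp only [repEquiv, Equiv.trans_apply, Equiv.apply_symm_apply, saEquiv_apply]
  ext i j
  rw [Matrix.map_apply]
  simp only [matOf, LinearMap.toMatrix_apply, LinearEquiv.coe_coe]
  have hb : ∀ (S : Type u) [CommRing S] [Algebra R S], EB (R := R) S j = (1 : S) ⊗ₜ[R] Pi.basisFun R (Fin n) j :=
    fun S _ _ => Algebra.TensorProduct.basis_apply _ _
  rw [hb, hb]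
  have h := D.natural B C φ y (Pi.basisFun R (Fin n) j)
  exact (congrArg (fun w => (EB C).repr w i) h).trans (repr_rTensor B φ _ i)

include D in
theorem smooth_iff_formallySmooth (hQ : Nondeg' Q) :
    Smooth G.hom ↔ Algebra.FormallySmooth R (HR Q b) := by
  rw [smooth_iff (repEquiv Q b D hQ) (repEquiv_nat Q b D hQ)]
  exact ⟨fun h => h.formallySmooth, fun h =>
    ⟨h, Algebra.FinitePresentation.quotient (Submodule.fg_span (Set.finite_range _))⟩⟩

end Ring

section Lift

variable {Q b A}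

lemma mul_eq_zero_of_sq {I : Ideal A} (hI : I ^ 2 = ⊥) : ∀ a ∈ I, ∀ c ∈ I, a * c = 0 := fun a ha c hc => by
  have h1 : a * c ∈ I ^ 2 := by rw [pow_two]; exact Ideal.mul_mem_mul ha hc
  rwa [hI] at h1

lemma exists_lift {I : Ideal A} (hI : I ^ 2 = ⊥) (hQ : Nondeg' Q)
    (hcase : (Even n ∨ IsUnit (2 : R)) ∧ (b = true → IsUnit (2 : R)) ∨ b = true ∧ Odd n)
    (Gb : Matrix (Fin n) (Fin n) (A ⧸ I)) (hGb : Cond Q b Gb) :
    ∃ G : Matrix (Fin n) (Fin n) A, Cond Q b G ∧ G.map (Ideal.Quotient.mkₐ R I) = Gb := by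
  classical
  have hI0 := mul_eq_zero_of_sq hI
  let π := Ideal.Quotient.mkₐ R I
  choose g hg using fun p : Fin n × Fin n => Ideal.Quotient.mkₐ_surjective R I (Gb p.1 p.2)
  let G₀ : Matrix (Fin n) (Fin n) A := Matrix.of fun i j => g (i, j)
  have hG₀ : G₀.map π = Gb := by ext i j; exact hg (i, j)
  have hU : ∀ (G : Matrix (Fin n) (Fin n) A), G.map π = Gb →
      ∀ z, coeffsOf (Gᵀ * βA Q A * G) z - coeffsOf (βA Q A) z ∈ I := fun G hG z => by
    rw [← Ideal.Quotient.eq_zero_iff_mem, map_sub]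
    have e1 := congrFun (coeffsOf_map π.toRingHom (Gᵀ * βA Q A * G)) z
    have e2 := congrFun (coeffsOf_map π.toRingHom (βA Q A)) z
    rw [AlgHom.toRingHom_eq_coe, RingHom.coe_coe, map_congr_form, hG, Function.comp_apply, hGb.1] at e1
    rw [AlgHom.toRingHom_eq_coe, RingHom.coe_coe, map_βA, Function.comp_apply] at e2
    exact sub_eq_zero.2 (e1.symm.trans e2)
  have hfix : ∀ (G K : Matrix (Fin n) (Fin n) A), G.map π = Gb → (∀ i j, K i j ∈ I) →
      coeffsOf (Gᵀ * βA Q A * G) - coeffsOf (βA Q A) + coeffsOf ((βA Q A + (βA Q A)ᵀ) * K) = 0 →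
      coeffsOf ((G * (1 + K))ᵀ * βA Q A * (G * (1 + K))) = coeffsOf (βA Q A) ∧
        (G * (1 + K)).map π = Gb := by
    intro G K hG hK hK'
    constructor
    · rw [show (G * (1 + K))ᵀ * βA Q A * (G * (1 + K)) = (1 + K)ᵀ * (Gᵀ * βA Q A * G) * (1 + K) by
        rw [Matrix.transpose_mul]; simp only [Matrix.mul_assoc]]
      rw [coeffsOf_congr_one_add I hI0 _ K hK, polar_mul_eq I hI0 (βA Q A) _ (hU G hG) hK]
      rwa [sub_add_eq_add_sub, sub_eq_zero] at hK'
    · have hKz : K.map π = 0 := by ext i j; exact Ideal.Quotient.eq_zero_iff_mem.2 (hK i j)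
      rw [Matrix.map_mul, Matrix.map_add _ (map_add π), Matrix.map_one _ (map_zero π) (map_one π), hKz,
        add_zero, Matrix.mul_one, hG]
  rcases hcase with ⟨h2, hb⟩ | ⟨hb, ho⟩
  · obtain ⟨K, hK, hK'⟩ := exists_fix_regular I hI0 (βA Q A) _ (isUnit_polar_det hQ h2) (hU G₀ hG₀)
    obtain ⟨h1, hm⟩ := hfix G₀ K hG₀ hK hK'
    refine ⟨G₀ * (1 + K), ⟨h1, fun hbt => ?_⟩, hm⟩
    haveI : Invertible (2 : A) := IsUnit.invertible (by
      rw [← map_ofNat (algebraMap R A) 2]; exact (hb hbt).map _)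
    refine eq_one_of_sq I hI0 (Ideal.Quotient.eq_zero_iff_mem.1 ?_) (det_sq_eq_one hQ h1)
    change π ((G₀ * (1 + K)).det - 1) = 0
    rw [map_sub, map_one, AlgHom.map_det, AlgHom.mapMatrix_apply, hm, hGb.2 hbt, sub_self]
  · let i₀ : Fin n := ⟨0, ho.pos⟩
    have hd0 : π G₀.det = 1 := by rw [AlgHom.map_det, AlgHom.mapMatrix_apply, hG₀, hGb.2 hb]
    have hmem : G₀.det - 1 ∈ I := Ideal.Quotient.eq_zero_iff_mem.1 (by
      change π (G₀.det - 1) = 0
      rw [map_sub, map_one, hd0, sub_self])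
    have hκ : π (2 - G₀.det) = 1 := by
      rw [map_sub, map_ofNat, hd0]; norm_num
    let G₁ := G₀ * Matrix.diagonal (Function.update (fun _ => (1 : A)) i₀ (2 - G₀.det))
    have hG₁ : G₁.map π = Gb := by
      have : (fun i => π (Function.update (fun _ => (1 : A)) i₀ (2 - G₀.det) i)) = fun _ => 1 := by
        funext i
        by_cases hi : i = i₀
        · subst hi; rw [Function.update_self, hκ]
        · rw [Function.update_of_ne hi, map_one]
      rw [Matrix.map_mul, Matrix.diagonal_map (map_zero π), hG₀, this, Matrix.diagonal_one, Matrix.mul_one]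
    have hdet : G₁.det = 1 := by
      rw [Matrix.det_mul, Matrix.det_diagonal, Finset.prod_update_of_mem (Finset.mem_univ i₀),
        Finset.prod_const_one, mul_one]
      linear_combination -(hI0 _ hmem _ hmem)
    obtain ⟨K, hK, hKt, hK'⟩ := exists_fix_odd I hI0 ho (βA Q A) (G₁ᵀ * βA Q A * G₁)
      (by rw [← hd_map]; exact (hQ.odd ho).map _) (hU G₁ hG₁)
      (by rw [hd_congr ho, hdet, one_pow, one_mul])
    obtain ⟨h1, hm⟩ := hfix G₁ K hG₁ hK hK'
    exact ⟨G₁ * (1 + K), ⟨h1, fun _ => by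
      rw [Matrix.det_mul, hdet, det_one_add I K hK hI0, hKt, add_zero, mul_one]⟩, hm⟩

variable (Q b)

theorem formallySmooth_HR (hQ : Nondeg' Q)
    (hcase : (Even n ∨ IsUnit (2 : R)) ∧ (b = true → IsUnit (2 : R)) ∨ b = true ∧ Odd n) :
    Algebra.FormallySmooth R (HR Q b) := by
  refine Algebra.FormallySmooth.of_comp_surjective fun B _ _ I hI ψ => ?_
  obtain ⟨G, hG, hGm⟩ := exists_lift (A := B) hI hQ hcase _ (hrEquiv Q b (B ⧸ I) ψ).2
  refine ⟨(hrEquiv Q b B).symm ⟨G, hG⟩, (hrEquiv Q b (B ⧸ I)).injective (Subtype.ext ?_)⟩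
  rw [hrEquiv_comp, Equiv.apply_symm_apply, hGm]

/-- A witness against formal smoothness. -/
lemma not_formallySmooth_of_witness (hQ : Nondeg' Q) (ho : Odd n) {A : Type u} [CommRing A] [Algebra R A]
    (x : A) (hA2 : (2 : A) = 0) (hx3 : x ^ 3 = 0) (hx2 : x ^ 2 ≠ 0) :
    ¬ Algebra.FormallySmooth R (HR Q false) := by
  intro h
  let I : Ideal A := Ideal.span {x ^ 2}
  have hI : I ^ 2 = ⊥ := by
    rw [Ideal.span_singleton_pow, ← pow_mul, show (2 * 2 : ℕ) = 3 + 1 from rfl, pow_succ, hx3, zero_mul,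
      Ideal.span_singleton_zero]
  let G₀ : Matrix (Fin n) (Fin n) A := (1 + x) • (1 : Matrix (Fin n) (Fin n) A)
  have hform : G₀ᵀ * βA Q A * G₀ = (1 + x ^ 2) • βA Q A := by
    simp only [G₀, Matrix.transpose_smul, Matrix.transpose_one, Matrix.smul_mul, Matrix.one_mul,
      Matrix.mul_smul, Matrix.mul_one, smul_smul]
    congr 1
    linear_combination x * hA2
  have hc : Cond Q false (G₀.map (Ideal.Quotient.mkₐ R I)) := by
    refine ⟨?_, fun h => by simp at h⟩
    rw [← map_congr_form, ← map_βA Q (Ideal.Quotient.mkₐ R I), hform]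
    congr 1
    ext i j
    rw [Matrix.map_apply, Matrix.map_apply, Matrix.smul_apply, smul_eq_mul, map_mul, map_add, map_one]
    have : Ideal.Quotient.mkₐ R I (x ^ 2) = 0 :=
      Ideal.Quotient.eq_zero_iff_mem.2 (Ideal.subset_span rfl)
    rw [this, add_zero, one_mul]
  obtain ⟨ψ, hψ⟩ := Algebra.FormallySmooth.comp_surjective R (HR Q false) I hI
    ((hrEquiv Q false (A ⧸ I)).symm ⟨_, hc⟩)
  let G := hrEquiv Q false A ψ
  have hG : G.1.map (Ideal.Quotient.mkₐ R I) = G₀.map (Ideal.Quotient.mkₐ R I) := by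
    rw [← hrEquiv_comp]
    exact congrArg Subtype.val ((congrArg _ hψ).trans ((hrEquiv Q false (A ⧸ I)).apply_symm_apply _))
  have hdd := det_sq_eq_one hQ G.2.1
  have hi : G.1.det - (1 + x) ^ n ∈ I := by
    rw [← Ideal.Quotient.eq_zero_iff_mem]
    change Ideal.Quotient.mkₐ R I (G.1.det - (1 + x) ^ n) = 0
    rw [map_sub, AlgHom.map_det, AlgHom.mapMatrix_apply, hG, ← AlgHom.mapMatrix_apply, ← AlgHom.map_det]
    simp only [G₀, Matrix.det_smul, Matrix.det_one, mul_one, Fintype.card_fin, sub_self]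
  have hsq : (1 + x) ^ n * (1 + x) ^ n = 1 := by
    linear_combination hdd - (mul_eq_zero_of_sq hI _ hi _ hi) - ((G.1.det - (1 + x) ^ n) * (1 + x) ^ n) * hA2
  obtain ⟨k, hk⟩ := ho
  have h4 : (1 + x ^ 2) ^ 2 = 1 := by linear_combination (x ^ 2) * hA2 + x * hx3
  apply hx2
  have e : (1 + x) ^ n * (1 + x) ^ n = 1 + x ^ 2 := by
    rw [← mul_pow, show (1 + x) * (1 + x) = 1 + x ^ 2 by linear_combination x * hA2, hk, pow_add, pow_mul, h4,
      one_pow, one_mul, pow_one]
  linear_combination e.symm.trans hsq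

theorem isUnit_two_of_formallySmooth (hQ : Nondeg' Q) (ho : Odd n)
    (h : Algebra.FormallySmooth R (HR Q false)) : IsUnit (2 : R) := by
  by_contra h2
  obtain ⟨m, hm, hm2⟩ := exists_max_ideal_of_mem_nonunits (a := (2 : R)) h2
  letI := Ideal.Quotient.field m
  have hk2 : (2 : R ⧸ m) = 0 := by
    rw [← map_ofNat (Ideal.Quotient.mk m) 2, Ideal.Quotient.eq_zero_iff_mem]; exact hm2
  let J : Ideal (Polynomial (R ⧸ m)) := Ideal.span {Polynomial.X ^ 3}
  refine not_formallySmooth_of_witness Q hQ ho (A := Polynomial (R ⧸ m) ⧸ J)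
    (Ideal.Quotient.mk J Polynomial.X) ?_ ?_ ?_ h
  · have h2P : (2 : Polynomial (R ⧸ m)) = 0 := by
      rw [← map_ofNat Polynomial.C 2, hk2, map_zero]
    rw [← map_ofNat (Ideal.Quotient.mk J) 2, h2P, map_zero]
  · rw [← map_pow, Ideal.Quotient.eq_zero_iff_mem]
    exact Ideal.subset_span rfl
  · rw [← map_pow, ne_eq, Ideal.Quotient.eq_zero_iff_mem, Ideal.mem_span_singleton]
    intro hdvd
    have h3 := Polynomial.natDegree_le_of_dvd hdvd (pow_ne_zero _ Polynomial.X_ne_zero)
    rw [Polynomial.natDegree_X_pow, Polynomial.natDegree_X_pow] at h3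
    omega

end Lift

end Groth.Agent.QuadLib
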